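import Cfsg.Agent.H907.FieldSub
import Cfsg.Agent.H905.SLProper3

/-!
# The normaliser of a cubic field over the field with four elements (helper895)

In `SL_3(4)` the normaliser of a cubic subfield of the matrix algebra lies in a subfield group
`GL_3(2) × scalars`.
-/

set_option autoImplicit false

namespace Cfsg.Agent.H895.SLThree

open Cfsg Cfsg.Geo Cfsg.Agent.H907
open scoped MatrixGroups Matrix

/-- companion matrix of `x³ + x + 1` -/
def cB (R : Type*) [CommRing R] : Matrix (Fin 3) (Fin 3) R := !![0, 0, 1; 1, 0, 1; 0, 1, 0]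
/-- inverse of `cB` in characteristic two -/
def cBi (R : Type*) [CommRing R] : Matrix (Fin 3) (Fin 3) R := !![1, 1, 0; 0, 0, 1; 1, 0, 0]
/-- the Frobenius map of `F_8` in the basis `1, x, x²` -/
def cT (R : Type*) [CommRing R] : Matrix (Fin 3) (Fin 3) R := !![1, 0, 0; 0, 0, 1; 0, 1, 1]
/-- the inverse of `cT` in characteristic two -/
def cTi (R : Type*) [CommRing R] : Matrix (Fin 3) (Fin 3) R := !![1, 0, 0; 0, 1, 1; 0, 1, 0]

section comp
variable {R : Type*} [CommRing R] (h2 : (2 : R) = 0)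
include h2

theorem one_add_one' : (1 : R) + 1 = 0 := by
  rw [one_add_one_eq_two, h2]

theorem cT_mul_cTi : cT R * cTi R = 1 := by
  have := one_add_one' h2
  ext i j
  fin_cases i <;> fin_cases j <;> simp [cT, cTi, Matrix.mul_apply, Fin.sum_univ_three, this]

theorem cTi_mul_cT : cTi R * cT R = 1 := by
  have := one_add_one' h2
  ext i j
  fin_cases i <;> fin_cases j <;> simp [cT, cTi, Matrix.mul_apply, Fin.sum_univ_three, this]

theorem cB_mul_cBi : cB R * cBi R = 1 := by
  have := one_add_one' h2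
  ext i j
  fin_cases i <;> fin_cases j <;> simp [cB, cBi, Matrix.mul_apply, Fin.sum_univ_three, this]

theorem cBi_mul_cB : cBi R * cB R = 1 := by
  have := one_add_one' h2
  ext i j
  fin_cases i <;> fin_cases j <;> simp [cB, cBi, Matrix.mul_apply, Fin.sum_univ_three, this]

theorem cT_mul_cB : cT R * cB R = cB R * cB R * cT R := by
  have := one_add_one' h2
  ext i j
  fin_cases i <;> fin_cases j <;> simp [cB, cT, Matrix.mul_apply, Fin.sum_univ_three, this]

/-- `cB` as an element of the general linear group -/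
def gB : GL (Fin 3) R := ⟨cB R, cBi R, cB_mul_cBi h2, cBi_mul_cB h2⟩
/-- `cT` as an element of the general linear group -/
def gT : GL (Fin 3) R := ⟨cT R, cTi R, cT_mul_cTi h2, cTi_mul_cT h2⟩

end comp

section four

variable {F : Type*} [Field F] [Fintype F]

omit [Fintype F] in
theorem comm_inv_of_mem {K : Subalgebra F (Matrix (Fin 3) (Fin 3) F)} (hK : IsFieldSubalgebra 3 K)
    {x : Matrix (Fin 3) (Fin 3) F} (hx : x ∈ K) (h0 : x ≠ 0) {v : Fin 3 → F} (hv : x *ᵥ v = 0) : v = 0 := by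
  obtain ⟨y, hy, hxy⟩ := hK.inv x hx h0
  have h1 : y *ᵥ (x *ᵥ v) = 0 := by rw [hv, Matrix.mulVec_zero]
  rwa [Matrix.mulVec_mulVec, hK.comm _ hy _ hx, hxy, Matrix.one_mulVec] at h1

omit [Fintype F] in
/-- an element of `K` killed by a product -/
theorem eq_zero_or_of_mul {K : Subalgebra F (Matrix (Fin 3) (Fin 3) F)} (hK : IsFieldSubalgebra 3 K)
    {x y : Matrix (Fin 3) (Fin 3) F} (hx : x ∈ K) (h : x * y = 0) : x = 0 ∨ y = 0 := by
  by_contra hc
  push Not at hc
  obtain ⟨z, hz, hxz⟩ := hK.inv x hx hc.1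
  apply hc.2
  have h1 : z * (x * y) = 0 := by rw [h, mul_zero]
  rwa [← mul_assoc, hK.comm _ hz _ hx, hxz, one_mul] at h1

theorem pow_three_of_four (hF : Fintype.card F = 4) {c : F} (hc : c ≠ 0) : c ^ 3 = 1 := by
  have := FiniteField.pow_card_sub_one_eq_one c hc
  rwa [hF] at this

/-- a generator of the group of order 7 in `K`, satisfying `b³ = b + 1` -/
theorem exists_b (hF : Fintype.card F = 4) (h2 : (2 : F) = 0) {K : Subalgebra F (Matrix (Fin 3) (Fin 3) F)}
    (hK : IsFieldSubalgebra 3 K) : ∃ b : GL (Fin 3) F, (b : Matrix (Fin 3) (Fin 3) F) ∈ K ∧ orderOf b = 7 ∧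
      (b : Matrix (Fin 3) (Fin 3) F) ^ 3 = b + 1 := by
  classical
  have hM2 : ∀ x : Matrix (Fin 3) (Fin 3) F, x + x = 0 := by
    intro x
    rw [← two_smul F x, h2, zero_smul]
  have hfin : Finite (KU hK) := inferInstance
  have hcard : Nat.card (KU hK) = 63 := by rw [card_KU hK, hF]; norm_num
  obtain ⟨b, hb⟩ := exists_prime_orderOf_dvd_card' (G := KU hK) 7 (hp := ⟨by norm_num⟩) (by rw [hcard]; norm_num)
  have hb7 : orderOf (b : GL (Fin 3) F) = 7 := by
    rw [Subgroup.orderOf_coe, hb]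
  set B : Matrix (Fin 3) (Fin 3) F := ((b : GL (Fin 3) F) : Matrix (Fin 3) (Fin 3) F) with hB
  have hBK : B ∈ K := b.2
  have hB7 : B ^ 7 = 1 := by
    rw [hB, ← Units.val_pow_eq_pow_val, ← hb7, pow_orderOf_eq_one, Units.val_one]
  have hB1 : B ≠ 1 := by
    intro h
    have : (b : GL (Fin 3) F) = 1 := Units.ext h
    rw [this, orderOf_one] at hb7
    omega
  have hprod : (B + 1) * ((B ^ 3 + B + 1) * (B ^ 3 + B ^ 2 + 1)) = 0 := by
    have h1 : (B + 1) * ((B ^ 3 + B + 1) * (B ^ 3 + B ^ 2 + 1)) = B ^ 7 + 1 + (B ^ 6 + B ^ 6) +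
        (B ^ 5 + B ^ 5) + (B ^ 4 + B ^ 4) + (B ^ 4 + B ^ 4) + (B ^ 3 + B ^ 3) + (B ^ 3 + B ^ 3) +
        (B ^ 2 + B ^ 2) + (B + B) := by
      noncomm_ring
    rw [h1, hB7]
    simp only [hM2]
  have hm1 : B + 1 ∈ K := K.add_mem hBK K.one_mem
  have hm2 : B ^ 3 + B + 1 ∈ K := K.add_mem (K.add_mem (K.pow_mem hBK 3) hBK) K.one_mem
  have hadd : ∀ x y : Matrix (Fin 3) (Fin 3) F, x + y = 0 → x = y := by
    intro x y h
    have h3 := congrArg (· + y) h
    simp only [add_assoc, hM2, add_zero, zero_add] at h3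
    exact h3
  rcases eq_zero_or_of_mul hK hm1 hprod with h | h
  · exact absurd (hadd _ _ h) hB1
  rcases eq_zero_or_of_mul hK hm2 h with h | h
  · refine ⟨b, hBK, hb7, ?_⟩
    rw [add_assoc] at h
    exact hadd _ _ h
  · refine ⟨(b : GL (Fin 3) F)⁻¹, (KU hK).inv_mem b.2, by rw [orderOf_inv]; exact hb7, ?_⟩
    have h3 : B ^ 3 = B ^ 2 + 1 := by
      rw [add_assoc] at h
      exact hadd _ _ h
    have hinv : (((b : GL (Fin 3) F)⁻¹ : GL (Fin 3) F) : Matrix (Fin 3) (Fin 3) F) = B ^ 6 := by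
      have : (b : GL (Fin 3) F)⁻¹ = (b : GL (Fin 3) F) ^ 6 := by
        have h7 : (b : GL (Fin 3) F) ^ 7 = 1 := by rw [← hb7, pow_orderOf_eq_one]
        rw [inv_eq_iff_mul_eq_one, ← pow_succ']
        exact h7
      rw [this, Units.val_pow_eq_pow_val]
    rw [hinv]
    have e1 : (B ^ 6) ^ 3 = B ^ 4 := by
      rw [← pow_mul, show 6 * 3 = 7 + 7 + 4 from rfl, pow_add, pow_add, hB7, one_mul, one_mul]
    have e2 : B ^ 6 = B ^ 4 + 1 := by
      rw [show 6 = 3 * 2 from rfl, pow_mul, h3]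
      have : (B ^ 2 + 1) ^ 2 = B ^ 4 + (B ^ 2 + B ^ 2) + 1 := by noncomm_ring
      rw [this, hM2, add_zero]
    rw [e1, e2, add_assoc, hM2, add_zero]

/-- The normaliser of a cubic field in `SL_3(4)` lies in a subfield group. -/
theorem field_four (hF : Fintype.card F = 4) {K : Subalgebra F (Matrix (Fin 3) (Fin 3) F)}
    (hK : IsFieldSubalgebra 3 K) : ∃ (F₀ : Subfield F) (P : GL (Fin 3) F),
      Fintype.card F = Nat.card F₀ ^ 2 ∧
      subalgebraNormalizer K ⊓ specialLinear (Fin 3) F ≤ subfieldSubgroup F₀ P := by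
  classical
  have : Fact (Nat.Prime 2) := ⟨Nat.prime_two⟩
  have hch : CharP F 2 := charP_of_card_eq_prime_pow (p := 2) (f := 2) (by rw [hF]; rfl)
  have h2 : (2 : F) = 0 := by exact_mod_cast CharP.cast_eq_zero F 2
  have h11 := one_add_one' h2
  have hneg : ∀ x : F, -x = x := by
    intro x
    rw [neg_eq_iff_add_eq_zero, ← two_mul, h2, zero_mul]
  obtain ⟨b, hbK, hb7, hb3⟩ := exists_b hF h2 hK
  set B : Matrix (Fin 3) (Fin 3) F := (b : Matrix (Fin 3) (Fin 3) F) with hB
  have hns : ¬ ∃ c : F, B = c • (1 : Matrix (Fin 3) (Fin 3) F) := by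
    rintro ⟨c, hc⟩
    have hc0 : c ≠ 0 := by
      rintro rfl
      exact b.ne_zero (by rw [← hB, hc, zero_smul])
    have h3 : b ^ 3 = 1 := by
      apply Units.ext
      rw [Units.val_pow_eq_pow_val, Units.val_one, ← hB, hc, smul_pow, one_pow, pow_three_of_four hF hc0, one_smul]
    have := orderOf_dvd_of_pow_eq_one h3
    rw [hb7] at this
    omega
  -- the basis `v, bv, b²v`
  obtain ⟨v, hv⟩ := exists_ne (0 : Fin 3 → F)
  have hlin : ∀ w : Fin 3 → F, w 0 • (1 : Matrix (Fin 3) (Fin 3) F) + w 1 • B + w 2 • B ^ 2 = 0 → w = 0 := by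
    intro w hw
    have hw2 : w 2 = 0 := by
      by_contra h0
      have hb2 : B ^ 2 = (w 1 / w 2) • B + (w 0 / w 2) • (1 : Matrix (Fin 3) (Fin 3) F) := by
        have h4 : w 2 • B ^ 2 = w 1 • B + w 0 • (1 : Matrix (Fin 3) (Fin 3) F) := by
          have h5 := congrArg (fun M => M + w 2 • B ^ 2) hw
          simp only [zero_add] at h5
          rw [← h5, add_assoc (w 0 • (1 : Matrix (Fin 3) (Fin 3) F) + w 1 • B), ← two_smul F (w 2 • B ^ 2), h2,
            zero_smul, add_zero, add_comm]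
        calc B ^ 2 = (w 2)⁻¹ • (w 2 • B ^ 2) := by rw [smul_smul, inv_mul_cancel₀ h0, one_smul]
          _ = _ := by
            rw [h4, smul_add, smul_smul, smul_smul]
            congr 2
            · rw [div_eq_mul_inv, mul_comm]
            · rw [div_eq_mul_inv, mul_comm]
      set α := w 1 / w 2
      set β := w 0 / w 2
      have hb3' : B ^ 3 = (α * α + β) • B + (α * β) • (1 : Matrix (Fin 3) (Fin 3) F) := by
        rw [pow_succ, hb2, add_mul, smul_mul_assoc, smul_mul_assoc, one_mul, ← pow_two, hb2, smul_add, smul_smul,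
          smul_smul, add_smul]
        abel
      have hrel : (α * α + β + 1) • B = (α * β + 1) • (1 : Matrix (Fin 3) (Fin 3) F) := by
        have h6 : (α * α + β) • B + (α * β) • (1 : Matrix (Fin 3) (Fin 3) F) = B + 1 := by rw [← hb3', hb3]
        have h7 : ∀ M : Matrix (Fin 3) (Fin 3) F, M + M = 0 := fun M => by rw [← two_smul F M, h2, zero_smul]
        have h8 := congrArg (fun M => M + B + (α * β) • (1 : Matrix (Fin 3) (Fin 3) F)) h6
        beta_reduce at h8
        calc (α * α + β + 1) • B = (α * α + β) • B + B + ((α * β) • (1 : Matrix (Fin 3) (Fin 3) F) +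
              (α * β) • (1 : Matrix (Fin 3) (Fin 3) F)) := by rw [h7, add_zero, add_smul, one_smul]
          _ = (α * α + β) • B + (α * β) • (1 : Matrix (Fin 3) (Fin 3) F) + B +
              (α * β) • (1 : Matrix (Fin 3) (Fin 3) F) := by abel
          _ = B + B + ((α * β) • (1 : Matrix (Fin 3) (Fin 3) F) + 1) := by rw [h8]; abel
          _ = _ := by rw [h7, zero_add, add_smul, one_smul]
      have h9 : α * α + β + 1 = 0 := by
        by_contra h0'
        apply hns
        refine ⟨(α * α + β + 1)⁻¹ * (α * β + 1), ?_⟩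
        rw [← smul_smul, ← hrel, smul_smul, inv_mul_cancel₀ h0', one_smul]
      have h10 : α * β + 1 = 0 := by
        rw [h9, zero_smul] at hrel
        have := congrFun (congrFun hrel 0) 0
        simpa using this.symm
      have hα : α ≠ 0 := by
        rintro h
        rw [h, zero_mul, zero_add] at h10
        exact one_ne_zero h10
      have h12 := pow_three_of_four hF hα
      have h13 : α = 0 := by
        have e1 : α * (α * α + β + 1) = 0 := by rw [h9, mul_zero]
        have e2 : α * (α * α + β + 1) = α ^ 3 + α * β + α := by ring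
        rw [e2, h12] at e1
        have e3 : (1 : F) + α * β = 0 := by rw [add_comm]; exact h10
        rwa [e3, zero_add] at e1
      exact hα h13
    rw [hw2, zero_smul, add_zero] at hw
    have hw1 : w 1 = 0 := by
      by_contra h0
      apply hns
      refine ⟨(w 1)⁻¹ * w 0, ?_⟩
      have h4 : w 1 • B = w 0 • (1 : Matrix (Fin 3) (Fin 3) F) := by
        have h5 := congrArg (fun M => M + w 1 • B) hw
        simp only [zero_add] at h5
        rw [← h5, add_assoc, ← two_smul F (w 1 • B), h2, zero_smul, add_zero]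
      rw [← smul_smul, ← h4, smul_smul, inv_mul_cancel₀ h0, one_smul]
    rw [hw1, zero_smul, add_zero] at hw
    have hw0 : w 0 = 0 := by
      have := congrFun (congrFun hw 0) 0
      simpa using this
    funext i
    fin_cases i
    · exact hw0
    · exact hw1
    · exact hw2
  let PM : Matrix (Fin 3) (Fin 3) F := Matrix.of fun i j => ((B ^ (j : ℕ)) *ᵥ v) i
  have hPM : ∀ w, PM *ᵥ w = w 0 • v + w 1 • (B *ᵥ v) + w 2 • (B ^ 2 *ᵥ v) := by
    intro w
    funext i
    show ∑ j, PM i j * w j = _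
    rw [Fin.sum_univ_three]
    simp only [PM, Matrix.of_apply, Fin.val_zero, Fin.val_one, Fin.val_two, pow_zero, pow_one, Matrix.one_mulVec,
      Pi.add_apply, Pi.smul_apply, smul_eq_mul]
    ring
  have hPM' : ∀ w, PM *ᵥ w = (w 0 • (1 : Matrix (Fin 3) (Fin 3) F) + w 1 • B + w 2 • B ^ 2) *ᵥ v := by
    intro w
    rw [hPM, Matrix.add_mulVec, Matrix.add_mulVec, Matrix.smul_mulVec, Matrix.smul_mulVec, Matrix.smul_mulVec,
      Matrix.one_mulVec]
  have hker : ∀ w, PM *ᵥ w = 0 → w = 0 := by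
    intro w hw
    apply hlin
    by_contra h0
    apply hv
    rw [hPM'] at hw
    exact comm_inv_of_mem hK (K.add_mem (K.add_mem (K.smul_mem K.one_mem _) (K.smul_mem hbK _))
      (K.smul_mem (K.pow_mem hbK 2) _)) h0 hw
  obtain ⟨P, hP⟩ : ∃ P : GL (Fin 3) F, (P : Matrix (Fin 3) (Fin 3) F) = PM := by
    have := isUnit_of_ker hker
    exact ⟨this.unit, rfl⟩
  have hbP : b * P = P * gB h2 := by
    apply Units.ext
    rw [Units.val_mul, Units.val_mul, hP]
    apply ext_mulVec
    intro w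
    rw [← Matrix.mulVec_mulVec, ← Matrix.mulVec_mulVec, hPM, hPM]
    have e : ((gB h2 : GL (Fin 3) F) : Matrix (Fin 3) (Fin 3) F) *ᵥ w = ![w 2, w 0 + w 2, w 1] := by
      show cB F *ᵥ w = _
      funext i
      fin_cases i <;> simp [cB, Matrix.mulVec, dotProduct, Fin.sum_univ_three]
    rw [e, Matrix.mulVec_add, Matrix.mulVec_add, Matrix.mulVec_smul, Matrix.mulVec_smul, Matrix.mulVec_smul,
      Matrix.mulVec_mulVec, Matrix.mulVec_mulVec, ← hB, ← pow_two, ← pow_succ', hb3, Matrix.add_mulVec,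
      Matrix.one_mulVec]
    simp only [Matrix.cons_val_zero, Matrix.cons_val_one, Matrix.cons_val]
    module
  have hbP' : b = P * gB h2 * P⁻¹ := by rw [← hbP]; group
  have hTB : (gT h2 : GL (Fin 3) F) * gB h2 = gB h2 * gB h2 * gT h2 := Units.ext (cT_mul_cB h2)
  set τ : GL (Fin 3) F := P * gT h2 * P⁻¹ with hτ
  have hτb : τ * b * τ⁻¹ = b ^ 2 := by
    have : τ * b = b ^ 2 * τ := by
      rw [hτ, hbP', pow_two]
      have : P * gT h2 * P⁻¹ * (P * gB h2 * P⁻¹) = P * (gT h2 * gB h2) * P⁻¹ := by group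
      rw [this, hTB]
      group
    rw [this]; group
  have hdetτ : τ ∈ specialLinear (Fin 3) F := by
    rw [hτ]
    apply Cfsg.Agent.H905.conj_mem_sl
    rw [Cfsg.Agent.H905.mem_sl_iff]
    show (cT F).det = 1
    rw [Matrix.det_fin_three]
    simp [cT, hneg]
  -- the subfield
  refine ⟨⊥, P, by rw [Subfield.card_bot F 2, hF]; rfl, ?_⟩
  have h2' : (2 : (⊥ : Subfield F)) = 0 := by
    apply Subtype.ext
    exact h2
  have hτS : τ ∈ subfieldSubgroup (⊥ : Subfield F) P := by
    refine ⟨gT h2, Subgroup.mem_sup_left ⟨gT h2', ?_⟩, rfl⟩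
    apply Units.ext
    ext i j
    show ((cT (⊥ : Subfield F) i j : (⊥ : Subfield F)) : F) = cT F i j
    fin_cases i <;> fin_cases j <;> simp [cT]
  have hbS : b ∈ subfieldSubgroup (⊥ : Subfield F) P := by
    refine ⟨gB h2, Subgroup.mem_sup_left ⟨gB h2', ?_⟩, hbP'.symm⟩
    apply Units.ext
    ext i j
    show ((cB (⊥ : Subfield F) i j : (⊥ : Subfield F)) : F) = cB F i j
    fin_cases i <;> fin_cases j <;> simp [cB]
  have hscS : scalars (Fin 3) F ≤ subfieldSubgroup (⊥ : Subfield F) P := by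
    intro s hs
    refine ⟨s, Subgroup.mem_sup_right hs, ?_⟩
    show P * s * P⁻¹ = s
    obtain ⟨c, hc⟩ := (mem_scalars_iff s).1 hs
    have h4 : P * s = s * P := by
      apply Units.ext
      rw [Units.val_mul, Units.val_mul, hc]
      simp
    rw [h4]
    group
  rintro g ⟨hgK, hgS⟩
  -- the action of `g` on `b`
  have hb'K : ((g * b * g⁻¹ : GL (Fin 3) F) : Matrix (Fin 3) (Fin 3) F) ∈ K := by
    have := (hgK B).1 hbK
    rwa [Units.val_mul, Units.val_mul]
  have hb'7 : (g * b * g⁻¹) ^ orderOf b = 1 := by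
    rw [conj_pow, pow_orderOf_eq_one, mul_one, mul_inv_cancel]
  obtain ⟨j, hj7, hj⟩ : ∃ j < 7, b ^ j = g * b * g⁻¹ := by
    have h := mem_zpowers_of_pow hK hb'K hbK hb'7
    rw [mem_zpowers_iff_mem_range_orderOf, hb7] at h
    simpa using h
  have hb'3 : (B ^ j) ^ 3 = B ^ j + 1 := by
    have e1 : B ^ j = ((g * b * g⁻¹ : GL (Fin 3) F) : Matrix (Fin 3) (Fin 3) F) := by
      rw [← hj, Units.val_pow_eq_pow_val]
    rw [e1, ← Units.val_pow_eq_pow_val, conj_pow, Units.val_mul, Units.val_mul, Units.val_pow_eq_pow_val, ← hB, hb3,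
      mul_add, add_mul, mul_one, Units.val_mul, Units.val_mul, ← hB, Units.mul_inv]
  have hM2 : ∀ x : Matrix (Fin 3) (Fin 3) F, x + x = 0 := fun x => by rw [← two_smul F x, h2, zero_smul]
  have hB7 : B ^ 7 = 1 := by
    rw [hB, ← Units.val_pow_eq_pow_val, ← hb7, pow_orderOf_eq_one, Units.val_one]
  have hB4 : B ^ 4 = B ^ 2 + B := by rw [pow_succ, hb3, add_mul, one_mul, pow_two]
  have hB5 : B ^ 5 = B ^ 2 + B + 1 := by
    rw [pow_succ, hB4, add_mul, ← pow_succ, hb3, ← pow_two]; abel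
  have hB6 : B ^ 6 = B ^ 2 + 1 := by
    rw [pow_succ, hB5, add_mul, add_mul, ← pow_succ, hb3, ← pow_two, one_mul]
    calc B + 1 + B ^ 2 + B = B ^ 2 + 1 + (B + B) := by abel
      _ = _ := by rw [hM2, add_zero]
  have hj3 : j = 1 ∨ j = 2 ∨ j = 4 := by
    interval_cases j
    · exfalso
      rw [pow_zero, one_pow, hM2] at hb'3
      exact one_ne_zero hb'3
    · simp
    · simp
    · exfalso
      rw [← pow_mul, show 3 * 3 = 7 + 2 from rfl, pow_add, hB7, one_mul, hb3, add_assoc, hM2, add_zero] at hb'3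
      have := hlin ![0, 1, 1] (by simp [hb'3, hM2])
      simpa using congrFun this 1
    · simp
    · exfalso
      rw [← pow_mul, show 5 * 3 = 7 + 7 + 1 from rfl, pow_add, pow_add, hB7, one_mul, one_mul, hB5, add_assoc, hM2,
        add_zero, pow_one] at hb'3
      have := hlin ![0, 0, 1] (by
        simp only [Matrix.cons_val_zero, Matrix.cons_val_one, Matrix.cons_val, zero_smul, zero_add, one_smul]
        have h5 := congrArg (· + B) hb'3
        simp only [add_assoc, hM2, add_zero] at h5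
        exact h5.symm)
      simpa using congrFun this 2
    · exfalso
      rw [← pow_mul, show 6 * 3 = 7 + 7 + 4 from rfl, pow_add, pow_add, hB7, one_mul, one_mul, hB6, add_assoc, hM2,
        add_zero, hB4] at hb'3
      have h0 : B = 0 := by simpa using hb'3
      exact b.ne_zero h0
  obtain ⟨i, hi⟩ : ∃ i : ℕ, τ ^ i * b * (τ ^ i)⁻¹ = b ^ j := by
    rcases hj3 with rfl | rfl | rfl
    · exact ⟨0, by simp⟩
    · exact ⟨1, by rw [pow_one, hτb]⟩
    · refine ⟨2, ?_⟩
      have : τ ^ 2 * b * (τ ^ 2)⁻¹ = τ * (τ * b * τ⁻¹) * τ⁻¹ := by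
        rw [pow_two, _root_.mul_inv_rev]
        simp only [mul_assoc]
      rw [this, hτb]
      have : τ * b ^ 2 * τ⁻¹ = (τ * b * τ⁻¹) ^ 2 := by rw [conj_pow]
      rw [this, hτb, ← pow_mul]
  set k : GL (Fin 3) F := (τ ^ i)⁻¹ * g with hk
  have hkb : k * b = b * k := by
    have h1 : g * b = b ^ j * g := by rw [hj]; group
    have h3 : τ ^ i * b = b ^ j * τ ^ i := by rw [← hi]; group
    have h4 : (τ ^ i)⁻¹ * b ^ j = b * (τ ^ i)⁻¹ := by
      rw [inv_mul_eq_iff_eq_mul, ← mul_assoc, h3, mul_inv_cancel_right]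
    rw [hk, mul_assoc, h1, ← mul_assoc, h4, mul_assoc]
  -- `k` lies in `K`
  have hkK : (k : Matrix (Fin 3) (Fin 3) F) ∈ K := by
    have hle : Algebra.adjoin F {B} ≤ K := Algebra.adjoin_le (by simpa using hbK)
    apply hle
    refine mem_of_commute (r := 3) (by norm_num) (by simp) (Algebra.adjoin F {B})
      (fun x hx y hy => hK.comm x (hle hx) y (hle hy)) ?_ ⟨B, Algebra.self_mem_adjoin_singleton F B, hns⟩ ?_
    · intro x hx h0
      obtain ⟨y, hy, hxy⟩ := hK.inv x (hle hx) h0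
      exact ⟨⟨x, y, hxy, by rw [hK.comm _ hy _ (hle hx)]; exact hxy⟩, rfl⟩
    · apply adjoin_commute
      intro s hs
      rw [Set.mem_singleton_iff] at hs
      rw [hs, hB, ← Units.val_mul, ← Units.val_mul, hkb]
  have hkdet : k ∈ specialLinear (Fin 3) F :=
    Subgroup.mul_mem _ (Subgroup.inv_mem _ (Subgroup.pow_mem _ hdetτ i)) hgS
  have hk21 : k ^ 21 = 1 := by
    have h := pow_eq_det (K := K) (by rw [Fintype.card_fin]; exact hK) hkK
    rw [(Cfsg.Agent.H905.mem_sl_iff k).1 hkdet, one_smul, hF, Fintype.card_fin] at h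
    apply Units.ext
    rw [Units.val_pow_eq_pow_val, Units.val_one]
    exact h
  have hk3 : k ^ 3 ∈ Subgroup.zpowers b := by
    apply mem_zpowers_of_pow hK (y := b) _ hbK
    · rw [hb7, ← pow_mul, hk21]
    · rw [Units.val_pow_eq_pow_val]; exact K.pow_mem hkK 3
  have hk7 : k ^ 7 ∈ scalars (Fin 3) F := by
    have : Fact (Nat.Prime 3) := ⟨Nat.prime_three⟩
    obtain ⟨w, hw⟩ := exists_prime_orderOf_dvd_card' (G := Fˣ) 3 (by
      rw [Nat.card_units, Nat.card_eq_fintype_card, hF])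
    let y : GL (Fin 3) F := Units.map (Matrix.scalar (Fin 3) : F →+* Matrix (Fin 3) (Fin 3) F).toMonoidHom w
    have hy : orderOf y = 3 := by
      refine Eq.trans ?_ hw
      apply orderOf_injective
      apply Units.map_injective
      exact fun a b hab => Matrix.scalar_inj.1 hab
    have hysc : y ∈ scalars (Fin 3) F := ⟨w, rfl⟩
    have hyK : (y : Matrix (Fin 3) (Fin 3) F) ∈ K := by
      obtain ⟨c, hc⟩ := (mem_scalars_iff y).1 hysc
      rw [hc]
      exact K.smul_mem K.one_mem _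
    have h4 : k ^ 7 ∈ Subgroup.zpowers y := by
      apply mem_zpowers_of_pow hK (y := y) _ hyK
      · rw [hy, ← pow_mul, hk21]
      · rw [Units.val_pow_eq_pow_val]; exact K.pow_mem hkK 7
    obtain ⟨n, hn⟩ := h4
    rw [← hn]
    exact Subgroup.zpow_mem _ hysc n
  have hkS : k ∈ subfieldSubgroup (⊥ : Subfield F) P := by
    have e : k = k ^ 7 * (k ^ 3)⁻¹ * (k ^ 3)⁻¹ := by group
    rw [e]
    have h3 : k ^ 3 ∈ subfieldSubgroup (⊥ : Subfield F) P := by
      obtain ⟨n, hn⟩ := hk3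
      rw [← hn]
      exact Subgroup.zpow_mem _ hbS n
    exact Subgroup.mul_mem _ (Subgroup.mul_mem _ (hscS hk7) (Subgroup.inv_mem _ h3)) (Subgroup.inv_mem _ h3)
  have e : g = τ ^ i * k := by rw [hk]; group
  rw [e]
  exact Subgroup.mul_mem _ (Subgroup.pow_mem _ hτS i) hkS

end four

end Cfsg.Agent.H895.SLThree
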