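import Mathlib
import Cfsg.Agent.H895.AffBasic

/-!
# Counting fixed pairs for the affine theorem
-/

set_option autoImplicit false

namespace Cfsg.Agent.H895

open MulAction

section

variable {V H : Type*} [CommGroup V] [Group H] [MulDistribMulAction H V]

/-- Nonidentity elements of `B` with a nontrivial fixed point. -/
def Iset (V : Type*) {H : Type*} [CommGroup V] [Group H] [MulDistribMulAction H V]
    (B : Subgroup H) : Set H := {x | x ∈ B ∧ x ≠ 1 ∧ ∃ v : V, v ≠ 1 ∧ x • v = v}

theorem card_inf_stab_smul {B : Subgroup H} (hBn : B.Normal) (h : H) (w : V) :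
    Nat.card (B ⊓ stabilizer H (h • w) : Subgroup H) =
      Nat.card (B ⊓ stabilizer H w : Subgroup H) := by
  refine Nat.card_congr ⟨fun x => ⟨h⁻¹ * (x : H) * h, ?_⟩, fun x => ⟨h * (x : H) * h⁻¹, ?_⟩, ?_, ?_⟩
  · have hx := x.2
    rw [Subgroup.mem_inf] at hx ⊢
    refine ⟨?_, ?_⟩
    · have := hBn.conj_mem _ hx.1 h⁻¹
      rwa [inv_inv] at this
    · have h2 := hx.2
      rw [mem_stabilizer_iff] at h2 ⊢
      rw [mul_smul, mul_smul, h2, inv_smul_smul]
  · have hx := x.2
    rw [Subgroup.mem_inf] at hx ⊢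
    refine ⟨hBn.conj_mem _ hx.1 h, ?_⟩
    have h2 := hx.2
    rw [mem_stabilizer_iff] at h2 ⊢
    rw [mul_smul, mul_smul, inv_smul_smul, h2]
  · intro x; apply Subtype.ext; simp [mul_assoc]
  · intro x; apply Subtype.ext; simp [mul_assoc]

theorem card_filter_stab [Finite V] [Fintype H] [DecidableEq H] (B : Subgroup H) (u : V)
    [DecidablePred (fun x : H => x ∈ B ∧ x ≠ 1)] [DecidablePred (fun x : H => x • u = u)] :
    ((Finset.univ.filter (fun x : H => x ∈ B ∧ x ≠ 1)).filter (fun x => x • u = u)).card =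
      Nat.card (B ⊓ stabilizer H u : Subgroup H) - 1 := by
  classical
  have h1 : (Finset.univ.filter (fun x : H => x ∈ B ∧ x ≠ 1)).filter (fun x => x • u = u) =
      (Finset.univ.filter (fun x : H => x ∈ (B ⊓ stabilizer H u : Subgroup H))).erase 1 := by
    ext x
    simp only [Finset.mem_filter, Finset.mem_univ, true_and, Finset.mem_erase, Subgroup.mem_inf,
      mem_stabilizer_iff]
    tauto
  rw [h1, Finset.card_erase_of_mem (by simp), Nat.card_eq_fintype_card, Fintype.card_subtype]

theorem count_bound [Finite V] [Finite H] (R : Subgroup H)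
    (hR : ∀ h : H, h ∉ R → ∀ v : V, h • v = v → v = 1)
    (B : Subgroup H) (hBn : B.Normal) (hBR : B ≤ R) {w : V} (hw : w ≠ 1) {c : ℕ}
    (hc : ∀ x ∈ Iset V B, Nat.card (fixS V (Subgroup.zpowers x)) ≤ c) :
    R.index * Nat.card B * (Nat.card (B ⊓ stabilizer H w : Subgroup H) - 1) ≤
      Nat.card (B ⊓ stabilizer H w : Subgroup H) * ((Iset V B).ncard * (c - 1)) := by
  classical
  have := Fintype.ofFinite H
  have := Fintype.ofFinite V
  set S := stabilizer H w with hS
  set m := Nat.card (B ⊓ S : Subgroup H) with hm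
  have hSR : S ≤ R := by
    intro h hh
    by_contra hcon
    exact hw (hR h hcon w hh)
  have h1 : R.index * Nat.card B ≤ S.index * m := by
    have e1 : S.relIndex R * R.index = S.index := Subgroup.relIndex_mul_index hSR
    have e2 : S.relIndex B ≤ S.relIndex R :=
      Subgroup.relIndex_le_of_le_right hBR (Subgroup.index_ne_zero_of_finite)
    have e3 := Subgroup.relIndex_mul_relIndex ⊥ (B ⊓ S) B bot_le inf_le_left
    rw [Subgroup.relIndex_bot_left, Subgroup.relIndex_bot_left, Subgroup.inf_relIndex_left] at e3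
    rw [← e1, ← e3]
    calc R.index * (m * S.relIndex B) = (S.relIndex B * R.index) * m := by ring
      _ ≤ (S.relIndex R * R.index) * m :=
        Nat.mul_le_mul_right _ (Nat.mul_le_mul_right _ e2)
  have h2 : S.index * (m - 1) ≤ (Iset V B).ncard * (c - 1) := by
    set s : Finset H := Finset.univ.filter (fun x => x ∈ B ∧ x ≠ 1) with hs
    set t : Finset V := Finset.univ.filter (fun u => u ∈ orbit H w) with ht
    have key := Finset.sum_card_bipartiteAbove_eq_sum_card_bipartiteBelow
      (fun (x : H) (u : V) => x • u = u) (s := s) (t := t)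
    have hRHS : ∑ u ∈ t, (Finset.bipartiteBelow (fun (x : H) (u : V) => x • u = u) s u).card =
        S.index * (m - 1) := by
      have e1 : ∀ u ∈ t,
          (Finset.bipartiteBelow (fun (x : H) (u : V) => x • u = u) s u).card = m - 1 := by
        intro u hu
        rw [ht, Finset.mem_filter] at hu
        obtain ⟨h, rfl⟩ := hu.2
        have := card_filter_stab B (h • w)
        rw [card_inf_stab_smul hBn] at this
        exact this
      rw [Finset.sum_congr rfl e1, Finset.sum_const, smul_eq_mul]
      congr 1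
      rw [index_stabilizer, ht, Set.ncard_eq_toFinset_card']
      congr 1
      ext u
      simp
    have hLHS : ∑ x ∈ s, (Finset.bipartiteAbove (fun (x : H) (u : V) => x • u = u) t x).card ≤
        (Iset V B).ncard * (c - 1) := by
      have e1 : ∀ x ∈ s, (Finset.bipartiteAbove (fun (x : H) (u : V) => x • u = u) t x).card ≤
          if x ∈ Iset V B then c - 1 else 0 := by
        intro x hx
        rw [hs, Finset.mem_filter] at hx
        have hne : ∀ u ∈ t, u ≠ 1 := by
          intro u hu h1
          rw [ht, Finset.mem_filter] at hu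
          obtain ⟨h, rfl⟩ := hu.2
          apply hw
          have h3 := congrArg (fun y => h⁻¹ • y) h1
          simpa using h3
        split_ifs with hxI
        · have e2 := hc x hxI
          have e3 : (Finset.bipartiteAbove (fun (x : H) (u : V) => x • u = u) t x) ⊆
              (Finset.univ.filter (fun u : V => u ∈ fixS V (Subgroup.zpowers x))).erase 1 := by
            intro u hu
            rw [Finset.mem_bipartiteAbove] at hu
            rw [Finset.mem_erase, Finset.mem_filter]
            exact ⟨hne u hu.1, Finset.mem_univ _, mem_fixS_zpowers.2 hu.2⟩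
          refine (Finset.card_le_card e3).trans ?_
          rw [Finset.card_erase_of_mem (by simp [one_mem])]
          rw [Nat.card_eq_fintype_card, Fintype.card_subtype] at e2
          omega
        · rw [Nat.le_zero, Finset.card_eq_zero, Finset.eq_empty_iff_forall_notMem]
          intro u hu
          rw [Finset.mem_bipartiteAbove] at hu
          exact hxI ⟨hx.2.1, hx.2.2, u, hne u hu.1, hu.2⟩
      refine (Finset.sum_le_sum e1).trans ?_
      rw [← Finset.sum_filter, Finset.sum_const, smul_eq_mul]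
      apply Nat.mul_le_mul_right
      rw [Set.ncard_eq_toFinset_card']
      apply Finset.card_le_card
      intro x hx
      rw [Finset.mem_filter] at hx
      rw [Set.mem_toFinset]
      exact hx.2
    rw [← hRHS, ← key]
    exact hLHS
  calc R.index * Nat.card B * (m - 1) ≤ (S.index * m) * (m - 1) := Nat.mul_le_mul_right _ h1
    _ = m * (S.index * (m - 1)) := by ring
    _ ≤ m * ((Iset V B).ncard * (c - 1)) := Nat.mul_le_mul_left _ h2

theorem ncard_Iset_le [Finite H] (B : Subgroup H) : (Iset V B).ncard ≤ Nat.card B := by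
  rw [← Nat.card_coe_set_eq]
  exact Nat.card_mono (Set.toFinite (B : Set H)) (fun x hx => hx.1)

theorem exists_max_fix [Finite V] [Finite H] {B : Subgroup H} (hI : (Iset V B).Nonempty) :
    ∃ x0 ∈ Iset V B, ∀ x ∈ Iset V B, Nat.card (fixS V (Subgroup.zpowers x)) ≤
      Nat.card (fixS V (Subgroup.zpowers x0)) :=
  Set.exists_max_image _ _ (Set.toFinite _) hI

theorem Iset_nonempty [Finite H] {B : Subgroup H} {w : V} (hw : w ≠ 1)
    (hm : 2 ≤ Nat.card (B ⊓ stabilizer H w : Subgroup H)) : (Iset V B).Nonempty := by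
  have h0 : (B ⊓ stabilizer H w : Subgroup H) ≠ ⊥ := by
    intro h
    rw [h, Subgroup.card_bot] at hm
    omega
  obtain ⟨x, hx1⟩ := Subgroup.ne_bot_iff_exists_ne_one.1 h0
  have hx := Subgroup.mem_inf.1 x.2
  exact ⟨x, hx.1, fun h => hx1 (Subtype.ext h), w, hw, hx.2⟩

/-- Counting for odd primes: all fixed spaces satisfy `c ^ 3 ≤ n`. -/
theorem bound_odd [Finite V] [Finite H] (R : Subgroup H)
    (hR : ∀ h : H, h ∉ R → ∀ v : V, h • v = v → v = 1)
    (B : Subgroup H) (hBn : B.Normal) (hBR : B ≤ R) {w : V} (hw : w ≠ 1)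
    (hm : 3 ≤ Nat.card (B ⊓ stabilizer H w : Subgroup H))
    (hc : ∀ x ∈ Iset V B, Nat.card (fixS V (Subgroup.zpowers x)) ^ 3 ≤ Nat.card V) :
    (R.index + 1) ^ 2 ≤ Nat.card V := by
  have hI : (Iset V B).Nonempty := Iset_nonempty hw (by omega)
  obtain ⟨x0, hx0, hmax⟩ := exists_max_fix hI
  set c := Nat.card (fixS V (Subgroup.zpowers x0)) with hcdef
  have hc3 := hc x0 hx0
  have key := count_bound R hR B hBn hBR hw hmax
  set m := Nat.card (B ⊓ stabilizer H w : Subgroup H) with hmdef
  have hcpos : 0 < c := Nat.card_pos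
  have hBpos : 0 < Nat.card B := Nat.card_pos
  obtain ⟨k, hk⟩ : ∃ k, m = k + 1 := ⟨m - 1, by omega⟩
  obtain ⟨d, hd⟩ : ∃ d, c = d + 1 := ⟨c - 1, by omega⟩
  rw [← hcdef] at hc3
  rw [hk, hd] at key
  simp only [Nat.add_sub_cancel] at key
  have h1 : R.index * k ≤ (k + 1) * d := by
    have h2 : Nat.card B * (R.index * k) ≤ Nat.card B * ((k + 1) * d) := by
      calc Nat.card B * (R.index * k) = R.index * Nat.card B * k := by ring
        _ ≤ (k + 1) * ((Iset V B).ncard * d) := key
        _ ≤ (k + 1) * (Nat.card B * d) :=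
          Nat.mul_le_mul_left _ (Nat.mul_le_mul_right _ (ncard_Iset_le B))
        _ = _ := by ring
    exact Nat.le_of_mul_le_mul_left h2 hBpos
  have hk2 : 2 ≤ k := by omega
  have h2 : 2 * R.index ≤ 3 * d := by
    have : k * (2 * R.index) ≤ k * (3 * d) := by nlinarith
    exact Nat.le_of_mul_le_mul_left this (by omega)
  refine le_trans ?_ hc3
  rw [hd]
  nlinarith [sq_nonneg (2 * d), Nat.zero_le d, mul_le_mul h2 h2 (Nat.zero_le _) (Nat.zero_le _)]

/-- Counting for the prime two. -/
theorem bound_two [Finite V] [Finite H] (R : Subgroup H)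
    (hR : ∀ h : H, h ∉ R → ∀ v : V, h • v = v → v = 1)
    (B : Subgroup H) (hBn : B.Normal) (hBR : B ≤ R) {w : V} (hw : w ≠ 1)
    (hm : 2 ≤ Nat.card (B ⊓ stabilizer H w : Subgroup H))
    (hI : (Iset V B).ncard * Nat.card (B ⊓ stabilizer H w : Subgroup H) ≤
      Nat.card B * (Nat.card (B ⊓ stabilizer H w : Subgroup H) - 1))
    (hc : ∀ x ∈ Iset V B, Nat.card (fixS V (Subgroup.zpowers x)) ^ 2 ≤ Nat.card V) :
    (R.index + 1) ^ 2 ≤ Nat.card V := by
  have hIne : (Iset V B).Nonempty := Iset_nonempty hw hm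
  obtain ⟨x0, hx0, hmax⟩ := exists_max_fix hIne
  set c := Nat.card (fixS V (Subgroup.zpowers x0)) with hcdef
  have hc2 := hc x0 hx0
  have key := count_bound R hR B hBn hBR hw hmax
  set m := Nat.card (B ⊓ stabilizer H w : Subgroup H) with hmdef
  have hcpos : 0 < c := Nat.card_pos
  have hBpos : 0 < Nat.card B := Nat.card_pos
  rw [← hcdef] at hc2
  have h1 : R.index ≤ c - 1 := by
    have h2 : (Nat.card B * (m - 1)) * R.index ≤ (Nat.card B * (m - 1)) * (c - 1) := by
      calc (Nat.card B * (m - 1)) * R.index = R.index * Nat.card B * (m - 1) := by ring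
        _ ≤ m * ((Iset V B).ncard * (c - 1)) := key
        _ = ((Iset V B).ncard * m) * (c - 1) := by ring
        _ ≤ _ := Nat.mul_le_mul_right _ hI
    exact Nat.le_of_mul_le_mul_left h2 (Nat.mul_pos hBpos (by omega))
  refine le_trans ?_ hc2
  exact Nat.pow_le_pow_left (by omega) 2

end

end Cfsg.Agent.H895
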