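import Mathlib

/-!
# Preimage of the socle of the centre of a quotient
-/

set_option autoImplicit false

namespace Cfsg.Agent.H895

section

variable {G : Type*} [Group G]

/-- Elements of order dividing `l` of `C` centralising `C`. -/
def omC (C : Subgroup G) (l : ℕ) : Subgroup G where
  carrier := {x | x ∈ C ∧ (∀ y ∈ C, x * y = y * x) ∧ x ^ l = 1}
  mul_mem' := by
    rintro a b ⟨ha, ha2, ha3⟩ ⟨hb, hb2, hb3⟩
    refine ⟨mul_mem ha hb, ?_, ?_⟩
    · intro y hy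
      rw [mul_assoc, hb2 y hy, ← mul_assoc, ha2 y hy, mul_assoc]
    · have h : Commute a b := ha2 b hb
      rw [h.mul_pow, ha3, hb3, one_mul]
  one_mem' := ⟨one_mem _, fun y _ => by rw [one_mul, mul_one], one_pow _⟩
  inv_mem' := by
    rintro a ⟨ha, ha2, ha3⟩
    refine ⟨inv_mem ha, ?_, ?_⟩
    · intro y hy
      have h : Commute a y := ha2 y hy
      exact h.inv_left
    · rw [inv_pow, ha3, inv_one]

theorem mem_omC {C : Subgroup G} {l : ℕ} {x : G} :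
    x ∈ omC C l ↔ x ∈ C ∧ (∀ y ∈ C, x * y = y * x) ∧ x ^ l = 1 := Iff.rfl

theorem omC_normal {C : Subgroup G} (hC : C.Normal) (l : ℕ) : (omC C l).Normal := by
  constructor
  intro x hx g
  obtain ⟨h1, h2, h3⟩ := hx
  refine ⟨hC.conj_mem _ h1 g, ?_, ?_⟩
  · intro y hy
    have hy' := hC.conj_mem _ hy g⁻¹
    rw [inv_inv] at hy'
    have h4 := h2 _ hy'
    calc g * x * g⁻¹ * y = g * (x * (g⁻¹ * y * g)) * g⁻¹ := by group
      _ = g * ((g⁻¹ * y * g) * x) * g⁻¹ := by rw [h4]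
      _ = _ := by group
  · rw [conj_pow, h3, mul_one, mul_inv_cancel]

theorem omC_ne_bot [Finite G] {C : Subgroup G} {l : ℕ} (hl : l.Prime) (hC : IsPGroup l C)
    (hne : C ≠ ⊥) : omC C l ≠ ⊥ := by
  have := Fact.mk hl
  have : Nontrivial C := (Subgroup.nontrivial_iff_ne_bot C).2 hne
  have h1 := hC.center_nontrivial
  have h2 : IsPGroup l (Subgroup.center C) := hC.to_subgroup _
  have h3 : l ∣ Nat.card (Subgroup.center C) := by
    obtain ⟨k, hk⟩ := (IsPGroup.iff_card.1 h2)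
    have h4 : 1 < Nat.card (Subgroup.center C) := Finite.one_lt_card
    rw [hk] at h4 ⊢
    rcases Nat.eq_zero_or_pos k with rfl | hk0
    · simp at h4
    · exact dvd_pow_self l (by omega)
  obtain ⟨x, hx⟩ := exists_prime_orderOf_dvd_card' l h3
  rw [Subgroup.ne_bot_iff_exists_ne_one]
  refine ⟨⟨((x : C) : G), (x : C).2, ?_, ?_⟩, ?_⟩
  · intro y hy
    have := Subgroup.mem_center_iff.1 x.2 ⟨y, hy⟩
    exact (congrArg Subtype.val this).symm
  · have h5 := pow_orderOf_eq_one x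
    rw [hx] at h5
    have h6 := congrArg (fun a : Subgroup.center C => ((a : C) : G)) h5
    simpa using h6
  · intro h
    have h5 : ((x : C) : G) = 1 := congrArg Subtype.val h
    have h6 : x = 1 := Subtype.ext (Subtype.ext h5)
    rw [h6, orderOf_one] at hx
    exact hl.one_lt.ne hx

theorem exists_omega [Finite G] {l : ℕ} (hl : l.Prime) (A C : Subgroup G) (hA : A.Normal)
    (hC : C.Normal) (hAC : A ≤ C) (hne : ¬ C ≤ A) (hCp : IsPGroup l C) :
    ∃ B : Subgroup G, B.Normal ∧ A ≤ B ∧ B ≤ C ∧ ¬ B ≤ A ∧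
      (∀ b ∈ B, ∀ c ∈ C, b * c * b⁻¹ * c⁻¹ ∈ A) ∧ (∀ b ∈ B, b ^ l ∈ A) := by
  set π := QuotientGroup.mk' A with hπ
  have hker : ∀ x, π x = 1 ↔ x ∈ A := fun x => by
    rw [hπ, QuotientGroup.mk'_apply, QuotientGroup.eq_one_iff]
  have hCn : (C.map π).Normal := hC.map π (QuotientGroup.mk'_surjective A)
  have hCb : C.map π ≠ ⊥ := by
    intro h
    apply hne
    intro c hc
    rw [← hker, ← Subgroup.mem_bot, ← h]
    exact Subgroup.mem_map_of_mem π hc
  have hmem : ∀ x, π x ∈ C.map π → x ∈ C := by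
    intro x hx
    obtain ⟨c, hc, hcx⟩ := hx
    have h1 : c⁻¹ * x ∈ A := by
      rw [← hker, map_mul, map_inv, hcx, inv_mul_cancel]
    have h2 := mul_mem hc (hAC h1)
    simpa using h2
  refine ⟨(omC (C.map π) l).comap π, (omC_normal hCn l).comap π, ?_, ?_, ?_, ?_, ?_⟩
  · intro a ha
    rw [Subgroup.mem_comap, (hker a).2 ha]
    exact one_mem _
  · intro b hb
    exact hmem b (Subgroup.mem_comap.1 hb).1
  · intro h
    apply omC_ne_bot hl (hCp.map π) hCb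
    rw [Subgroup.eq_bot_iff_forall]
    intro x hx
    obtain ⟨y, rfl⟩ := QuotientGroup.mk'_surjective A x
    have h1 : y ∈ A := h hx
    exact (hker y).2 h1
  · intro b hb c hc
    have h1 := (Subgroup.mem_comap.1 hb).2.1 (π c) (Subgroup.mem_map_of_mem π hc)
    rw [← hker, map_mul, map_mul, map_mul, map_inv, map_inv, h1]
    group
  · intro b hb
    have h1 := (Subgroup.mem_comap.1 hb).2.2
    rw [← hker, map_pow, h1]

/-- The set of commutators `a x a⁻¹ x⁻¹` is a group if these are central. -/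
theorem exists_comm_subgroup (A K : Subgroup G) (x : G)
    (h1 : ∀ a ∈ K, a * x * a⁻¹ * x⁻¹ ∈ A) (h2 : ∀ a ∈ K, ∀ c ∈ A, a * c = c * a) :
    ∃ T : Subgroup G, ∀ c, c ∈ T ↔ ∃ a ∈ K, a * x * a⁻¹ * x⁻¹ = c := by
  refine ⟨{ carrier := {c | ∃ a ∈ K, a * x * a⁻¹ * x⁻¹ = c}, mul_mem' := ?_, one_mem' := ?_,
            inv_mem' := ?_ }, fun c => Iff.rfl⟩
  · rintro c d ⟨a, ha, rfl⟩ ⟨b, hb, rfl⟩
    refine ⟨b * a, mul_mem hb ha, ?_⟩
    have h3 := h2 b hb _ (h1 a ha)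
    calc b * a * x * (b * a)⁻¹ * x⁻¹ = (b * (a * x * a⁻¹ * x⁻¹)) * x * b⁻¹ * x⁻¹ := by group
      _ = ((a * x * a⁻¹ * x⁻¹) * b) * x * b⁻¹ * x⁻¹ := by rw [h3]
      _ = _ := by group
  · exact ⟨1, one_mem _, by group⟩
  · rintro c ⟨a, ha, rfl⟩
    refine ⟨a⁻¹, inv_mem ha, ?_⟩
    have h3 := h2 a⁻¹ (inv_mem ha) _ (inv_mem (h1 a ha))
    calc a⁻¹ * x * a⁻¹⁻¹ * x⁻¹ = (a⁻¹ * (a * x * a⁻¹ * x⁻¹)⁻¹) * a := by group
      _ = ((a * x * a⁻¹ * x⁻¹)⁻¹ * a⁻¹) * a := by rw [h3]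
      _ = _ := by group

end

end Cfsg.Agent.H895
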