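import Mathlib
import Cfsg.Agent.H895.AffCount
import Cfsg.Agent.H895.AffOmega

/-!
# The core situation of the affine theorem
-/

set_option autoImplicit false

namespace Cfsg.Agent.H895

open MulAction

/-- `Q` is a normal `l`-subgroup of `H`, all abelian normal subgroups of `H` in `Q` are
semiregular, `A` is a maximal one of them, `z` is an element of order `l` in it. -/
structure Core (V : Type*) {H : Type*} [CommGroup V] [Group H] [MulDistribMulAction H V]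
    (l : ℕ) (R Q A : Subgroup H) (z : H) : Prop where
  hl : l.Prime
  hcop : Nat.Coprime l (Nat.card V)
  hR : ∀ h : H, h ∉ R → ∀ v : V, h • v = v → v = 1
  hQn : Q.Normal
  hQR : Q ≤ R
  hQp : IsPGroup l Q
  hsemi : ∀ E : Subgroup H, E.Normal → E ≤ Q → (∀ x ∈ E, ∀ y ∈ E, x * y = y * x) →
    ∀ a ∈ E, a ≠ 1 → ∀ v : V, a • v = v → v = 1
  hAn : A.Normal
  hAQ : A ≤ Q
  hAc : ∀ x ∈ A, ∀ y ∈ A, x * y = y * x
  hAmax : ∀ E : Subgroup H, E.Normal → E ≤ Q → (∀ x ∈ E, ∀ y ∈ E, x * y = y * x) →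
    A ≤ E → E ≤ A
  hzA : z ∈ A
  hzQ : ∀ q ∈ Q, z * q = q * z
  hzl : z ^ l = 1
  hz1 : z ≠ 1

section

variable {V H : Type*} [CommGroup V] [Group H] [MulDistribMulAction H V]
  {l : ℕ} {R Q A : Subgroup H} {z : H}

/-- Any nontrivial element of an `l`-group has a power of order `l`. -/
theorem exists_pow_ord {Q : Subgroup H} (hQ : IsPGroup l Q) {y : H} (hy : y ∈ Q)
    (hy1 : y ≠ 1) : ∃ k : ℕ, y ^ k ≠ 1 ∧ (y ^ k) ^ l = 1 ∧ (y ^ l ≠ 1 → ∃ j, k = l * j) := by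
  obtain ⟨n, hn⟩ := hQ ⟨y, hy⟩
  have hn' : y ^ l ^ n = 1 := by
    have := congrArg Subtype.val hn
    simpa using this
  classical
  have hex : ∃ n, y ^ l ^ n = 1 := ⟨n, hn'⟩
  have h1 := Nat.find_spec hex
  have h2 : Nat.find hex ≠ 0 := by
    intro h
    rw [h, pow_zero, pow_one] at h1
    exact hy1 h1
  obtain ⟨m, hm⟩ := Nat.exists_eq_succ_of_ne_zero h2
  refine ⟨l ^ m, ?_, ?_, ?_⟩
  · exact Nat.find_min hex (by omega)
  · rw [← pow_mul, ← pow_succ]
    rw [hm] at h1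
    exact h1
  · intro hyl
    rcases Nat.eq_zero_or_pos m with rfl | hm0
    · exfalso
      rw [hm, Nat.succ_eq_add_one, zero_add, pow_one] at h1
      exact hyl h1
    · obtain ⟨j, rfl⟩ := Nat.exists_eq_succ_of_ne_zero hm0.ne'
      exact ⟨l ^ j, by rw [Nat.succ_eq_add_one, pow_succ']⟩

theorem Core.semiA (D : Core V l R Q A z) : ∀ a ∈ A, a ≠ 1 → ∀ v : V, a • v = v → v = 1 :=
  D.hsemi A D.hAn D.hAQ D.hAc

theorem Core.zfix (D : Core V l R Q A z) : ∀ v : V, z • v = v → v = 1 :=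
  D.semiA z D.hzA D.hz1

theorem Core.orderOf_z (D : Core V l R Q A z) : orderOf z = l :=
  orderOf_eq_prime_iff (hp := ⟨D.hl⟩) |>.2 ⟨D.hzl, D.hz1⟩

theorem card_stab_ge [Finite H] {B : Subgroup H} {y : H} (hy : y ∈ B) {w : V} (hyw : y • w = w) :
    orderOf y ≤ Nat.card (B ⊓ stabilizer H w : Subgroup H) := by
  rw [← Nat.card_zpowers]
  apply Nat.card_le_card_of_injective (Subgroup.inclusion ?_) (Subgroup.inclusion_injective _)
  rw [Subgroup.zpowers_le]
  exact ⟨hy, hyw⟩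

variable [Finite V] [Nontrivial V]

theorem Core.lemE (D : Core V l R Q A z) {x : H} (hxQ : x ∈ Q) (hxl : x ^ l = 1) :
    ∃ i : ℕ, i < l ∧ ∃ v : V, v ≠ 1 ∧ (x * z ^ i) • v = v :=
  exists_fixed D.hl D.hcop (D.hzQ x hxQ).symm hxl D.hzl D.zfix

variable [Finite H]

omit [Finite H] in
theorem Core.ordA (D : Core V l R Q A z) {x : H} (hx : x ∈ A) (hxl : x ^ l = 1) :
    x ∈ Subgroup.zpowers z := by
  obtain ⟨i, _, v, hv, hxv⟩ := D.lemE (D.hAQ hx) hxl
  have h1 : x * z ^ i = 1 := by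
    by_contra h
    exact hv (D.semiA _ (mul_mem hx (pow_mem D.hzA i)) h v hxv)
  rw [eq_inv_of_mul_eq_one_left h1]
  exact inv_mem (pow_mem (Subgroup.mem_zpowers z) i)

theorem Core.z_mem_zpowers (D : Core V l R Q A z) {x : H} (hx : x ∈ A) (hxl : x ^ l = 1)
    (hx1 : x ≠ 1) : z ∈ Subgroup.zpowers x := by
  have h1 : Subgroup.zpowers x ≤ Subgroup.zpowers z := by
    rw [Subgroup.zpowers_le]; exact D.ordA hx hxl
  have h2 : orderOf x = l := orderOf_eq_prime_iff (hp := ⟨D.hl⟩) |>.2 ⟨hxl, hx1⟩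
  have h3 : Subgroup.zpowers x = Subgroup.zpowers z := by
    apply Subgroup.eq_of_le_of_card_ge h1
    rw [Nat.card_zpowers, Nat.card_zpowers, h2, D.orderOf_z]
  rw [h3]; exact Subgroup.mem_zpowers z

theorem Core.z_mem (D : Core V l R Q A z) {T : Subgroup H} (hT : T ≤ A) (hne : T ≠ ⊥) :
    z ∈ T := by
  obtain ⟨y, hy1⟩ := Subgroup.ne_bot_iff_exists_ne_one.1 hne
  have hy1' : (y : H) ≠ 1 := fun h => hy1 (Subtype.ext h)
  obtain ⟨k, hk1, hk2, _⟩ := exists_pow_ord D.hQp (D.hAQ (hT y.2)) hy1'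
  have h1 := D.z_mem_zpowers (pow_mem (hT y.2) k) hk2 hk1
  have h2 : Subgroup.zpowers ((y : H) ^ k) ≤ T := by
    rw [Subgroup.zpowers_le]; exact pow_mem y.2 k
  exact h2 h1

theorem Core.conj (D : Core V l R Q A z) {K : Subgroup H} {x : H} (hxQ : x ∈ Q)
    (h1 : ∀ a ∈ K, a * x * a⁻¹ * x⁻¹ ∈ A) (h2 : ∀ a ∈ K, ∀ c ∈ A, a * c = c * a)
    (hne : ∃ a ∈ K, a * x ≠ x * a) (i : ℕ) : ∃ h ∈ K, h * x * h⁻¹ = x * z ^ i := by
  obtain ⟨T, hT⟩ := exists_comm_subgroup A K x h1 h2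
  have hTA : T ≤ A := by
    intro c hc
    obtain ⟨a, ha, rfl⟩ := (hT c).1 hc
    exact h1 a ha
  have hTne : T ≠ ⊥ := by
    intro h
    obtain ⟨a, ha, hax⟩ := hne
    have h3 : a * x * a⁻¹ * x⁻¹ ∈ T := (hT _).2 ⟨a, ha, rfl⟩
    rw [h, Subgroup.mem_bot, mul_inv_eq_one, mul_inv_eq_iff_eq_mul] at h3
    exact hax h3
  have hz := pow_mem (D.z_mem hTA hTne) i
  obtain ⟨a, ha, hai⟩ := (hT _).1 hz
  refine ⟨a, ha, ?_⟩
  rw [mul_inv_eq_iff_eq_mul] at hai
  rw [hai]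
  have : Commute z x := D.hzQ x hxQ
  exact (this.pow_left i)

theorem Core.fixle (D : Core V l R Q A z) {K : Subgroup H} {x : H} (hxQ : x ∈ Q)
    (h1 : ∀ a ∈ K, a * x * a⁻¹ * x⁻¹ ∈ A) (h2 : ∀ a ∈ K, ∀ c ∈ A, a * c = c * a)
    (hne : ∃ a ∈ K, a * x ≠ x * a) (hxl : x ^ l = 1) :
    Nat.card (fixS V (Subgroup.zpowers x)) ^ l ≤ Nat.card V := by
  refine fix_pow_le D.hl D.hcop (D.hzQ x hxQ).symm hxl D.hzl D.zfix ?_
  intro i _
  obtain ⟨h, _, hh⟩ := D.conj hxQ h1 h2 hne i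
  exact ⟨h, hh⟩

/-- The properties of the subgroups `B`. -/
structure P1 (l : ℕ) (Q A B : Subgroup H) : Prop where
  hBn : B.Normal
  hBQ : B ≤ Q
  hAB : A ≤ B
  hne : ¬ B ≤ A
  hcomm : ∀ b ∈ B, ∀ c ∈ B, b * c * b⁻¹ * c⁻¹ ∈ A
  hcen : ∀ a ∈ A, ∀ b ∈ B, a * b = b * a
  hpow : ∀ b ∈ B, b ^ l ∈ A

omit [Finite V] [Nontrivial V] [Finite H] in
theorem Core.exists_noncomm (D : Core V l R Q A z) {B : Subgroup H} (hB : P1 l Q A B) {b : H}
    (hb : b ∈ B) (hbA : b ∉ A) : ∃ c ∈ B, c * b ≠ b * c := by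
  by_contra hcon
  push Not at hcon
  set Z : Subgroup H := B ⊓ Subgroup.centralizer (B : Set H) with hZ
  have hZn : Z.Normal := by
    have := hB.hBn
    infer_instance
  have h1 : ∀ x, x ∈ Z ↔ x ∈ B ∧ ∀ c ∈ B, c * x = x * c := by
    intro x
    rw [hZ, Subgroup.mem_inf, Subgroup.mem_centralizer_iff]
    rfl
  have h2 : Z ≤ A := by
    apply D.hAmax Z hZn (inf_le_left.trans hB.hBQ)
    · intro x hx y hy
      exact ((h1 y).1 hy).2 x ((h1 x).1 hx).1
    · intro a ha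
      exact (h1 a).2 ⟨hB.hAB ha, fun c hc => (hB.hcen a ha c hc).symm⟩
  exact hbA (h2 ((h1 b).2 ⟨hb, hcon⟩))

theorem Core.Iset_props (D : Core V l R Q A z) {B : Subgroup H} (hB : P1 l Q A B) {y : H}
    (hy : y ∈ Iset V B) : y ^ l = 1 ∧ y ∉ A ∧
      Nat.card (fixS V (Subgroup.zpowers y)) ^ l ≤ Nat.card V := by
  obtain ⟨hyB, hy1, v, hv, hyv⟩ := hy
  have h1 : y ^ l = 1 := by
    by_contra h
    apply hv
    apply D.semiA _ (hB.hpow y hyB) h
    have : y ^ l ∈ stabilizer H v := pow_mem (show y ∈ stabilizer H v from hyv) l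
    exact this
  have h2 : y ∉ A := fun h => hv (D.semiA y h hy1 v hyv)
  refine ⟨h1, h2, ?_⟩
  exact D.fixle (hB.hBQ hyB) (K := B) (fun a ha => hB.hcomm a ha y hyB)
    (fun a ha c hc => (hB.hcen c hc a ha).symm) (D.exists_noncomm hB hyB h2) h1

omit [Finite H] in
theorem Core.exists_Iset (D : Core V l R Q A z) {B : Subgroup H} (hB : P1 l Q A B)
    (h2 : ∃ x ∈ B, x ∉ A ∧ x ^ l = 1) : ∃ y ∈ Iset V B, ∃ w : V, w ≠ 1 ∧ y • w = w := by
  obtain ⟨x, hxB, hxA, hxl⟩ := h2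
  obtain ⟨i, _, v, hv, hxv⟩ := D.lemE (hB.hBQ hxB) hxl
  refine ⟨x * z ^ i, ⟨mul_mem hxB (pow_mem (hB.hAB D.hzA) i), ?_, v, hv, hxv⟩, v, hv, hxv⟩
  intro h
  apply hxA
  rw [eq_inv_of_mul_eq_one_left h]
  exact inv_mem (pow_mem D.hzA i)

/-- The final count for odd primes. -/
theorem Core.fin_odd (D : Core V l R Q A z) (hl3 : 3 ≤ l) {B : Subgroup H} (hB : P1 l Q A B)
    (h2 : ∃ x ∈ B, x ∉ A ∧ x ^ l = 1) : (R.index + 1) ^ 2 ≤ Nat.card V := by
  obtain ⟨y, hy, w, hw, hyw⟩ := D.exists_Iset hB h2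
  refine bound_odd R D.hR B hB.hBn (hB.hBQ.trans D.hQR) hw ?_ ?_
  · have h3 := card_stab_ge hy.1 hyw
    have h4 : orderOf y = l :=
      orderOf_eq_prime_iff (hp := ⟨D.hl⟩) |>.2 ⟨(D.Iset_props hB hy).1, hy.2.1⟩
    omega
  · intro x hx
    exact (Nat.pow_le_pow_right Nat.card_pos hl3).trans (D.Iset_props hB hx).2.2

/-- The final count for the prime two when `|I| ≤ |B|/2`. -/
theorem Core.fin_two (D : Core V 2 R Q A z) {B : Subgroup H} (hB : P1 2 Q A B)
    (h2 : ∃ x ∈ B, x ∉ A ∧ x ^ 2 = 1) (hI : (Iset V B).ncard * 2 ≤ Nat.card B) :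
    (R.index + 1) ^ 2 ≤ Nat.card V := by
  obtain ⟨y, hy, w, hw, hyw⟩ := D.exists_Iset hB h2
  have hm : 2 ≤ Nat.card (B ⊓ stabilizer H w : Subgroup H) := by
    have h3 := card_stab_ge hy.1 hyw
    have h4 : orderOf y = 2 :=
      orderOf_eq_prime_iff (hp := ⟨D.hl⟩) |>.2 ⟨(D.Iset_props hB hy).1, hy.2.1⟩
    omega
  refine bound_two R D.hR B hB.hBn (hB.hBQ.trans D.hQR) hw hm ?_ ?_
  · obtain ⟨k, hk⟩ : ∃ k, Nat.card (B ⊓ stabilizer H w : Subgroup H) = k + 1 :=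
      ⟨_, (Nat.succ_pred_eq_of_pos (by omega)).symm⟩
    rw [hk] at hm ⊢
    rw [Nat.add_sub_cancel]
    nlinarith
  · intro x hx
    exact (D.Iset_props hB hx).2.2

/-- In the case `|A| ≥ 4` the count is automatic. -/
theorem Core.fin_two_big (D : Core V 2 R Q A z) (hA4 : 4 ≤ Nat.card A) {B : Subgroup H}
    (hB : P1 2 Q A B) (h2 : ∃ x ∈ B, x ∉ A ∧ x ^ 2 = 1) :
    (R.index + 1) ^ 2 ≤ Nat.card V := by
  apply D.fin_two hB h2
  -- the map `I × A → B` is at most two to one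
  have h3 : (Iset V B).ncard * Nat.card A ≤ 2 * Nat.card B := by
    classical
    have := Fintype.ofFinite H
    set s : Finset (H × H) := (Iset V B).toFinset ×ˢ (A : Set H).toFinset with hs
    set t : Finset H := (B : Set H).toFinset with ht
    have hmaps : Set.MapsTo (fun p : H × H => p.1 * p.2) s t := by
      intro p hp
      simp only [hs, Finset.coe_product, Set.coe_toFinset, Set.mem_prod, SetLike.mem_coe] at hp
      simp only [ht, Set.coe_toFinset, SetLike.mem_coe]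
      exact mul_mem hp.1.1 (hB.hAB hp.2)
    have hfib : ∀ b ∈ t, (s.filter (fun p => p.1 * p.2 = b)).card ≤ 2 := by
      intro b hb
      by_contra hcon
      push Not at hcon
      rw [Finset.two_lt_card_iff] at hcon
      obtain ⟨p, q, r, hp, hq, hr, hpq, hpr, hqr⟩ := hcon
      simp only [hs, Finset.mem_filter, Finset.mem_product, Set.mem_toFinset,
        SetLike.mem_coe] at hp hq hr
      -- any two elements of the fibre differ by a power of `z`
      have key : ∀ p q : H × H, ((p.1 ∈ Iset V B ∧ p.2 ∈ A) ∧ p.1 * p.2 = b) →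
          ((q.1 ∈ Iset V B ∧ q.2 ∈ A) ∧ q.1 * q.2 = b) → p ≠ q → q.1 = p.1 * z := by
        rintro ⟨y, a⟩ ⟨y', a'⟩ ⟨⟨hy, ha⟩, hya⟩ ⟨⟨hy', ha'⟩, hya'⟩ hne
        simp only at hy ha hya hy' ha' hya' ⊢
        have e1 : y' = y * (a * a'⁻¹) := by
          rw [← mul_assoc, hya, ← hya', mul_inv_cancel_right]
        have hd : a * a'⁻¹ ∈ A := mul_mem ha (inv_mem ha')
        have e2 : (a * a'⁻¹) ^ 2 = 1 := by
          have e3 : y' ^ 2 = y ^ 2 * (a * a'⁻¹) ^ 2 := by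
            rw [e1]
            have : Commute y (a * a'⁻¹) := (hB.hcen _ hd y hy.1).symm
            exact this.mul_pow 2
          rw [(D.Iset_props hB hy).1, (D.Iset_props hB hy').1, one_mul] at e3
          exact e3.symm
        have e4 := D.ordA hd e2
        rw [e1]
        congr 1
        have e5 : a * a'⁻¹ ≠ 1 := by
          intro h
          apply hne
          rw [h, mul_one] at e1
          subst e1
          rw [mul_inv_eq_one] at h
          rw [h]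
        have e6 : z ∈ Subgroup.zpowers (a * a'⁻¹) := D.z_mem_zpowers hd e2 e5
        rw [Subgroup.mem_zpowers_iff] at e6
        obtain ⟨k, hk⟩ := e6
        rcases Int.even_or_odd k with ⟨j, hj⟩ | ⟨j, hj⟩
        · exfalso
          apply D.hz1
          rw [← hk, hj, ← two_mul, zpow_mul]
          norm_cast
          rw [e2, one_zpow]
        · rw [← hk, hj, zpow_add, zpow_mul, zpow_one]
          norm_cast
          rw [e2, one_zpow, one_mul]
      have k1 := key p q hp hq hpq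
      have k2 := key p r hp hr hpr
      apply hqr
      have e1 : q.1 = r.1 := by rw [k1, k2]
      have e2 : q.1 * q.2 = r.1 * r.2 := by rw [hq.2, hr.2]
      rw [e1] at e2
      exact Prod.ext e1 (mul_left_cancel e2)
    have h4 := Finset.card_le_mul_card_image_of_maps_to hmaps 2 hfib
    rw [hs, Finset.card_product] at h4
    rw [Set.ncard_eq_toFinset_card']
    have h5 : Nat.card A = ((A : Set H).toFinset).card := by
      rw [Set.toFinset_card, Nat.card_eq_fintype_card]; rfl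
    have h6 : Nat.card B = ((B : Set H).toFinset).card := by
      rw [Set.toFinset_card, Nat.card_eq_fintype_card]; rfl
    rw [h5, h6]
    exact h4
  have h4 : (Iset V B).ncard * 4 ≤ (Iset V B).ncard * Nat.card A := Nat.mul_le_mul_left _ hA4
  omega

end

end Cfsg.Agent.H895
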