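import Mathlib
import Cfsg.Agent.H895.AffCore

/-!
# Existence of elements of order `l` outside `A`
-/

set_option autoImplicit false

namespace Cfsg.Agent.H895

open MulAction

section

variable {V H : Type*} [CommGroup V] [Group H] [MulDistribMulAction H V]
  {l : ℕ} {R Q A : Subgroup H} {z : H}

/-- The power formula in class two. -/
theorem mul_pow_class_two {b c k : H} (hcb : c * b = b * c * k) (hkb : Commute k b)
    (hkc : Commute k c) (n : ℕ) : (b * c) ^ n = b ^ n * c ^ n * k ^ (n.choose 2) := by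
  have h1 : ∀ n : ℕ, c ^ n * b = b * c ^ n * k ^ n := by
    intro n
    induction n with
    | zero => simp
    | succ n ih =>
      calc c ^ (n + 1) * b = c ^ n * (c * b) := by rw [pow_succ, mul_assoc]
        _ = c ^ n * b * c * k := by rw [hcb]; simp only [mul_assoc]
        _ = b * c ^ n * k ^ n * c * k := by rw [ih]
        _ = b * c ^ n * (k ^ n * c) * k := by simp only [mul_assoc]
        _ = b * c ^ n * (c * k ^ n) * k := by rw [(hkc.pow_left n).eq]
        _ = b * (c ^ n * c) * (k ^ n * k) := by simp only [mul_assoc]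
        _ = _ := by rw [← pow_succ, ← pow_succ]
  induction n with
  | zero => simp
  | succ n ih =>
    have h2 : (n + 1).choose 2 = n + n.choose 2 := by
      rw [Nat.choose_succ_succ' n 1, Nat.choose_one_right]
    calc (b * c) ^ (n + 1) = b ^ n * c ^ n * k ^ (n.choose 2) * (b * c) := by
          rw [pow_succ, ih]
      _ = b ^ n * c ^ n * (k ^ (n.choose 2) * (b * c)) := by simp only [mul_assoc]
      _ = b ^ n * c ^ n * ((b * c) * k ^ (n.choose 2)) := by
          rw [((hkb.mul_right hkc).pow_left (n.choose 2)).eq]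
      _ = b ^ n * (c ^ n * b) * c * k ^ (n.choose 2) := by simp only [mul_assoc]
      _ = b ^ n * (b * c ^ n * k ^ n) * c * k ^ (n.choose 2) := by rw [h1]
      _ = b ^ n * b * c ^ n * (k ^ n * c) * k ^ (n.choose 2) := by simp only [mul_assoc]
      _ = b ^ n * b * c ^ n * (c * k ^ n) * k ^ (n.choose 2) := by
          rw [(hkc.pow_left n).eq]
      _ = (b ^ n * b) * (c ^ n * c) * (k ^ n * k ^ (n.choose 2)) := by simp only [mul_assoc]
      _ = _ := by rw [← pow_succ, ← pow_succ, ← pow_add, h2]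

variable [Finite V] [Nontrivial V] [Finite H]

/-- The subgroup of `l`-th powers of `A` has index `l` in `A`. -/
theorem Core.exists_pow_subgroup (D : Core V l R Q A z) :
    ∃ P : Subgroup H, (∀ x, x ∈ P ↔ ∃ a ∈ A, a ^ l = x) ∧ P ≤ A ∧ P.relIndex A = l := by
  have hcomm : ∀ x ∈ A, ∀ y ∈ A, (x * y) ^ l = x ^ l * y ^ l := by
    intro x hx y hy
    have : Commute x y := D.hAc x hx y hy
    exact this.mul_pow l
  let φ : A →* H :=
    { toFun := fun a => (a : H) ^ l
      map_one' := by simp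
      map_mul' := fun a b => hcomm a a.2 b b.2 }
  have hφ : ∀ a : A, φ a = (a : H) ^ l := fun _ => rfl
  have hmem : ∀ x, x ∈ φ.range ↔ ∃ a ∈ A, a ^ l = x := by
    intro x
    constructor
    · rintro ⟨a, rfl⟩; exact ⟨a, a.2, rfl⟩
    · rintro ⟨a, ha, rfl⟩; exact ⟨⟨a, ha⟩, rfl⟩
  have hPA : φ.range ≤ A := by
    intro x hx
    obtain ⟨a, ha, rfl⟩ := (hmem x).1 hx
    exact pow_mem ha l
  refine ⟨φ.range, hmem, hPA, ?_⟩
  have h1 : Nat.card φ.ker = l := by
    rw [← D.orderOf_z, ← Nat.card_zpowers]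
    have h2 : φ.ker.map A.subtype = Subgroup.zpowers z := by
      apply le_antisymm
      · rintro x ⟨a, ha, rfl⟩
        apply D.ordA a.2
        rw [SetLike.mem_coe, MonoidHom.mem_ker, hφ] at ha
        exact ha
      · rw [Subgroup.zpowers_le]
        exact ⟨⟨z, D.hzA⟩, by rw [SetLike.mem_coe, MonoidHom.mem_ker, hφ]; exact D.hzl, rfl⟩
    rw [← h2]
    exact (Nat.card_congr (φ.ker.equivMapOfInjective _ A.subtype_injective).toEquiv)
  have h2 := Subgroup.card_mul_index φ.ker
  rw [Subgroup.index_ker, h1] at h2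
  have h3 := Subgroup.relIndex_mul_relIndex ⊥ φ.range A bot_le hPA
  rw [Subgroup.relIndex_bot_left, Subgroup.relIndex_bot_left, ← h2, mul_comm l] at h3
  exact Nat.eq_of_mul_eq_mul_left Nat.card_pos h3

omit [Finite H] in
/-- The index being prime there is nothing between `P` and `A`. -/
theorem le_or_eq_of_relIndex_prime {P M A : Subgroup H} {l : ℕ} (hl : l.Prime)
    (hPM : P ≤ M) (hMA : M ≤ A) (h : P.relIndex A = l) : M ≤ P ∨ A ≤ M := by
  have h1 := Subgroup.relIndex_mul_relIndex P M A hPM hMA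
  rw [h] at h1
  have h2 : P.relIndex M ∣ l := Dvd.intro _ h1
  rcases (Nat.dvd_prime hl).1 h2 with h3 | h3
  · left; exact Subgroup.relIndex_eq_one.1 h3
  · right
    apply Subgroup.relIndex_eq_one.1
    rw [h3] at h1
    exact Nat.eq_of_mul_eq_mul_left hl.pos (by rw [h1, mul_one])

omit [Finite H] in
/-- Commutators of `B` have order dividing `l`. -/
theorem P1.comm_pow {l : ℕ} {B : Subgroup H} (hB : P1 l Q A B) {b c : H} (hb : b ∈ B)
    (hc : c ∈ B) : (b * c * b⁻¹ * c⁻¹) ^ l = 1 := by
  have hk := hB.hcomm b hb c hc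
  set k := b * c * b⁻¹ * c⁻¹ with hkdef
  have hkb : Commute k b := hB.hcen k hk b hb
  have hkc : Commute k c := hB.hcen k hk c hc
  have h1 : b * c = k * (c * b) := by rw [hkdef]; group
  have h2 : ∀ n : ℕ, b ^ n * c = k ^ n * (c * b ^ n) := by
    intro n
    induction n with
    | zero => simp
    | succ n ih =>
      calc b ^ (n + 1) * c = b * (b ^ n * c) := by rw [pow_succ', mul_assoc]
        _ = b * k ^ n * (c * b ^ n) := by rw [ih, mul_assoc]
        _ = k ^ n * b * (c * b ^ n) := by rw [(hkb.pow_left n).eq]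
        _ = k ^ n * (b * c) * b ^ n := by simp only [mul_assoc]
        _ = k ^ n * (k * (c * b)) * b ^ n := by rw [h1]
        _ = (k ^ n * k) * (c * (b * b ^ n)) := by simp only [mul_assoc]
        _ = _ := by rw [← pow_succ, ← pow_succ']
  have h3 := h2 l
  have h4 := hB.hcen _ (hB.hpow b hb) c hc
  rw [h4] at h3
  exact (mul_eq_right.1 h3.symm)

theorem Core.exists_P2 (D : Core V l R Q A z) (hA4 : l = 2 → 4 ≤ Nat.card A) {B : Subgroup H}
    (hB : P1 l Q A B) : ∃ x ∈ B, x ∉ A ∧ x ^ l = 1 := by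
  obtain ⟨P, hP, hPA, hPi⟩ := D.exists_pow_subgroup
  -- `z ∈ P` if `l = 2`
  have hzP : l = 2 → z ∈ P := by
    intro h2
    apply D.z_mem hPA
    intro hbot
    rw [hbot, Subgroup.relIndex_bot_left, h2] at hPi
    have := hA4 h2
    omega
  -- the power map is multiplicative modulo `P`
  have hmul : ∀ b ∈ B, ∀ c ∈ B, ∃ q ∈ P, (b * c) ^ l = b ^ l * c ^ l * q := by
    intro b hb c hc
    have hcb : c * b = b * c * (b * c * b⁻¹ * c⁻¹)⁻¹ := by
      have h1 := hB.hcen _ (inv_mem (hB.hcomm b hb c hc)) _ (mul_mem hb hc)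
      rw [← h1]; group
    have hk := inv_mem (hB.hcomm b hb c hc)
    refine ⟨_, ?_, mul_pow_class_two hcb (hB.hcen _ hk b hb) (hB.hcen _ hk c hc) l⟩
    have hkl : ((b * c * b⁻¹ * c⁻¹)⁻¹) ^ l = 1 := by
      rw [inv_pow, hB.comm_pow hb hc, inv_one]
    rcases D.hl.eq_two_or_odd' with h2 | hodd
    · apply pow_mem
      have h3 := D.ordA hk hkl
      have h4 : Subgroup.zpowers z ≤ P := by rw [Subgroup.zpowers_le]; exact hzP h2
      exact h4 h3
    · obtain ⟨j, hj⟩ := hodd
      have h3 : l.choose 2 = l * j := by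
        rw [Nat.choose_two_right, hj]
        have : (2 * j + 1) * (2 * j + 1 - 1) = 2 * ((2 * j + 1) * j) := by
          rw [Nat.add_sub_cancel]; ring
        rw [this, Nat.mul_div_cancel_left _ (by norm_num)]
      rw [h3, pow_mul, hkl, one_pow]
      exact one_mem _
  -- an element whose power is in `P` can be corrected
  have hcorr : ∀ b ∈ B, b ∉ A → b ^ l ∈ P → ∃ x ∈ B, x ∉ A ∧ x ^ l = 1 := by
    intro b hb hbA hbl
    obtain ⟨a, ha, hal⟩ := (hP _).1 hbl
    refine ⟨b * a⁻¹, mul_mem hb (inv_mem (hB.hAB ha)), ?_, ?_⟩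
    · intro h
      apply hbA
      have := mul_mem h ha
      simpa using this
    · have : Commute b a⁻¹ := (hB.hcen _ (inv_mem ha) b hb).symm
      rw [this.mul_pow, inv_pow, hal, mul_inv_cancel]
  obtain ⟨b1, hb1, hb1A⟩ := SetLike.not_le_iff_exists.1 hB.hne
  obtain ⟨b2, hb2, hb21⟩ := D.exists_noncomm hB hb1 hb1A
  by_cases hb1P : b1 ^ l ∈ P
  · exact hcorr b1 hb1 hb1A hb1P
  · have h1 : A ≤ P ⊔ Subgroup.zpowers (b1 ^ l) := by
      have h2 : P ⊔ Subgroup.zpowers (b1 ^ l) ≤ A := by
        apply sup_le hPA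
        rw [Subgroup.zpowers_le]
        exact hB.hpow b1 hb1
      rcases le_or_eq_of_relIndex_prime D.hl le_sup_left h2 hPi with h3 | h3
      · exfalso
        apply hb1P
        exact h3 (Subgroup.mem_sup_right (Subgroup.mem_zpowers _))
      · exact h3
    -- the set of `x ∈ A` with `x = b1^(lj) p`
    have h2 : ∃ j : ℤ, ∃ p ∈ P, b2 ^ l = b1 ^ (l * j : ℤ) * p := by
      have h3 : ∀ x ∈ P ⊔ Subgroup.zpowers (b1 ^ l), ∃ j : ℤ, ∃ p ∈ P,
          x = b1 ^ (l * j : ℤ) * p := by
        intro x hx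
        rw [Subgroup.sup_eq_closure] at hx
        induction hx using Subgroup.closure_induction with
        | mem x hx =>
          rcases hx with hx | hx
          · exact ⟨0, x, hx, by simp⟩
          · rw [SetLike.mem_coe, Subgroup.mem_zpowers_iff] at hx
            obtain ⟨k, rfl⟩ := hx
            exact ⟨k, 1, one_mem _, by rw [mul_one, zpow_mul, zpow_natCast]⟩
        | one => exact ⟨0, 1, one_mem _, by simp⟩
        | mul x y _ _ ihx ihy =>
          obtain ⟨j, p, hp, rfl⟩ := ihx
          obtain ⟨j', p', hp', rfl⟩ := ihy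
          refine ⟨j + j', p * p', mul_mem hp hp', ?_⟩
          have hc : Commute p (b1 ^ (l * j' : ℤ)) := by
            have : Commute p b1 := hB.hcen p (hPA hp) b1 hb1
            exact this.zpow_right _
          calc b1 ^ (l * j : ℤ) * p * (b1 ^ (l * j' : ℤ) * p')
              = b1 ^ (l * j : ℤ) * (p * b1 ^ (l * j' : ℤ)) * p' := by simp only [mul_assoc]
            _ = b1 ^ (l * j : ℤ) * (b1 ^ (l * j' : ℤ) * p) * p' := by rw [hc.eq]
            _ = (b1 ^ (l * j : ℤ) * b1 ^ (l * j' : ℤ)) * (p * p') := by simp only [mul_assoc]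
            _ = _ := by rw [← zpow_add, mul_add]
        | inv x _ ihx =>
          obtain ⟨j, p, hp, rfl⟩ := ihx
          refine ⟨-j, p⁻¹, inv_mem hp, ?_⟩
          have hc : Commute p (b1 ^ (l * j : ℤ)) := by
            have : Commute p b1 := hB.hcen p (hPA hp) b1 hb1
            exact this.zpow_right _
          rw [← hc.eq, mul_inv_rev, mul_neg, zpow_neg]
      exact h3 _ (h1 (hB.hpow b2 hb2))
    obtain ⟨j, p, hp, hj⟩ := h2
    have hy : b1 ^ (-j) ∈ B := zpow_mem hb1 _
    obtain ⟨q, hq, hql⟩ := hmul b2 hb2 _ hy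
    apply hcorr (b2 * b1 ^ (-j)) (mul_mem hb2 hy)
    · intro h
      apply hb21
      have h5 := hB.hcen _ h b1 hb1
      have h6 : Commute (b1 ^ j) b1 := (Commute.refl b1).zpow_left j
      have h7 : b2 = (b2 * b1 ^ (-j)) * b1 ^ j := by rw [zpow_neg, inv_mul_cancel_right]
      have h8 : Commute b2 b1 := by
        rw [h7]
        exact Commute.mul_left h5 h6
      exact h8
    · rw [hql, hj]
      have h5 : (b1 ^ (-j)) ^ l = (b1 ^ (l * j : ℤ))⁻¹ := by
        rw [← zpow_natCast, ← zpow_mul, ← zpow_neg]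
        congr 1
        ring
      have hc : Commute p (b1 ^ (l * j : ℤ)) := by
        have : Commute p b1 := hB.hcen p (hPA hp) b1 hb1
        exact this.zpow_right _
      rw [h5, ← hc.eq, mul_inv_cancel_right]
      exact mul_mem hp hq

end

end Cfsg.Agent.H895
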