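import Mathlib
import Cfsg.Agent.H895.AffPow

/-!
# The case where `A` is self-centralising in `Q`
-/

set_option autoImplicit false

namespace Cfsg.Agent.H895

open MulAction

section

variable {V H : Type*} [CommGroup V] [Group H] [MulDistribMulAction H V]
  {l : ℕ} {R Q A : Subgroup H} {z : H}

variable [Finite V] [Nontrivial V] [Finite H]

omit [Nontrivial V] [Finite V] [Finite H] in
/-- A power of order `l` of an element of `Iset V Q`. -/
theorem Core.pow_Iset (D : Core V l R Q A z) {y : H} (hy : y ∈ Iset V Q) :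
    ∃ k : ℕ, y ^ k ∈ Iset V Q ∧ (y ^ k) ^ l = 1 ∧ y ^ k ∉ A ∧
      (y ^ l ≠ 1 → ∃ j, k = l * j) := by
  obtain ⟨hyQ, hy1, v, hv, hyv⟩ := hy
  obtain ⟨k, hk1, hk2, hk3⟩ := exists_pow_ord D.hQp hyQ hy1
  have h1 : y ^ k • v = v := by
    have : y ^ k ∈ stabilizer H v := pow_mem (show y ∈ stabilizer H v from hyv) k
    exact this
  exact ⟨k, ⟨pow_mem hyQ k, hk1, v, hv, h1⟩, hk2, fun h => hv (D.semiA _ h hk1 v h1), hk3⟩

omit [Nontrivial V] [Finite H] in
theorem card_fixS_le_pow (y : H) (k : ℕ) :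
    Nat.card (fixS V (Subgroup.zpowers y)) ≤ Nat.card (fixS V (Subgroup.zpowers (y ^ k))) := by
  have h : fixS V (Subgroup.zpowers y) ≤ fixS V (Subgroup.zpowers (y ^ k)) := by
    apply fixS_anti
    rw [Subgroup.zpowers_le]
    exact pow_mem (Subgroup.mem_zpowers y) k
  exact Nat.card_le_card_of_injective (Subgroup.inclusion h) (Subgroup.inclusion_injective h)

/-- Fixed spaces of elements of order `l` outside `A`. -/
theorem Core.fix_self (D : Core V l R Q A z) (hself : ∀ q ∈ Q, (∀ a ∈ A, a * q = q * a) → q ∈ A)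
    {x : H} (hx : x ∈ Q) (hxA : x ∉ A) (hxl : x ^ l = 1) :
    Nat.card (fixS V (Subgroup.zpowers x)) ^ l ≤ Nat.card V := by
  refine D.fixle hx (K := A) ?_ D.hAc ?_ hxl
  · intro a ha
    have h1 := mul_mem ha (D.hAn.conj_mem _ (inv_mem ha) x)
    simpa only [mul_assoc] using h1
  · by_contra hcon
    push Not at hcon
    exact hxA (hself x hx hcon)

/-- `A` self-centralising, `l` odd. -/
theorem Core.self_odd (D : Core V l R Q A z) (hl3 : 3 ≤ l)
    (hself : ∀ q ∈ Q, (∀ a ∈ A, a * q = q * a) → q ∈ A) {y : H} (hy : y ∈ Iset V Q) :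
    (R.index + 1) ^ 2 ≤ Nat.card V := by
  obtain ⟨k, hk, hkl, hkA, _⟩ := D.pow_Iset hy
  obtain ⟨_, hk1, w, hw, hkw⟩ := hk
  refine bound_odd R D.hR Q D.hQn D.hQR hw ?_ ?_
  · have h3 := card_stab_ge (B := Q) (pow_mem hy.1 k) hkw
    have h4 : orderOf (y ^ k) = l :=
      orderOf_eq_prime_iff (hp := ⟨D.hl⟩) |>.2 ⟨hkl, hk1⟩
    omega
  · intro x hx
    obtain ⟨j, hj, hjl, hjA, _⟩ := D.pow_Iset hx
    have h1 := D.fix_self hself hj.1 hjA hjl
    calc Nat.card (fixS V (Subgroup.zpowers x)) ^ 3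
        ≤ Nat.card (fixS V (Subgroup.zpowers (x ^ j))) ^ 3 :=
          Nat.pow_le_pow_left (card_fixS_le_pow x j) 3
      _ ≤ Nat.card (fixS V (Subgroup.zpowers (x ^ j))) ^ l :=
          Nat.pow_le_pow_right Nat.card_pos hl3
      _ ≤ _ := h1

omit [Finite H] in
/-- For `l = 2` the elements of `A` of order two. -/
theorem Core.ordA_two (D : Core V 2 R Q A z) {x : H} (hx : x ∈ A) (hx2 : x * x = 1) :
    x = 1 ∨ x = z := by
  have h1 := D.ordA hx (by rw [pow_two]; exact hx2)
  obtain ⟨k, hk⟩ := Subgroup.mem_zpowers_iff.1 h1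
  have hz2 : z ^ (2 : ℤ) = 1 := by
    have := D.hzl
    norm_cast
  rcases Int.even_or_odd k with ⟨j, hj⟩ | ⟨j, hj⟩
  · left
    rw [← hk, hj, ← two_mul, zpow_mul, hz2, one_zpow]
  · right
    rw [← hk, hj, zpow_add, zpow_mul, hz2, one_zpow, zpow_one, one_mul]

omit [Nontrivial V] [Finite V] [Finite H] in
theorem Core.zz (D : Core V 2 R Q A z) : z * z = 1 := by
  rw [← pow_two]; exact D.hzl

omit [Finite H] in
/-- `z` is central in `H`. -/
theorem Core.z_conj (D : Core V 2 R Q A z) (h : H) : h * z * h⁻¹ = z := by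
  have h1 : h * z * h⁻¹ ∈ A := D.hAn.conj_mem _ D.hzA h
  rcases D.ordA_two h1 (by
    calc h * z * h⁻¹ * (h * z * h⁻¹) = h * (z * z) * h⁻¹ := by group
      _ = 1 := by rw [D.zz]; group) with h2 | h2
  · exfalso
    apply D.hz1
    rw [mul_inv_eq_one] at h2
    exact mul_eq_left.1 h2
  · exact h2

omit [Finite H] in
theorem Core.z_comm (D : Core V 2 R Q A z) (h : H) : h * z = z * h := by
  have := D.z_conj h
  rw [mul_inv_eq_iff_eq_mul] at this
  exact this

/-- The kernel of `[·, u]` on `A` is the group of squares. -/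
theorem Core.comm_iff_square (D : Core V 2 R Q A z) {u : H}
    (hu : ∀ a ∈ A, a * u = u * a ∨ a * u = z * (u * a)) (hne : ∃ a ∈ A, a * u ≠ u * a)
    {a : H} (ha : a ∈ A) : a * u = u * a ↔ ∃ b ∈ A, b * b = a := by
  obtain ⟨P, hP, hPA, hPi⟩ := D.exists_pow_subgroup
  set M : Subgroup H := A ⊓ Subgroup.centralizer {u} with hM
  have hMm : ∀ x, x ∈ M ↔ x ∈ A ∧ x * u = u * x := by
    intro x
    rw [hM, Subgroup.mem_inf, Subgroup.mem_centralizer_singleton_iff]
  have hsq : ∀ b ∈ A, (b * b) * u = u * (b * b) := by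
    intro b hb
    rcases hu b hb with h | h
    · calc b * b * u = b * (b * u) := by rw [mul_assoc]
        _ = (b * u) * b := by rw [h, ← mul_assoc, h]
        _ = _ := by rw [h, mul_assoc]
    · calc b * b * u = b * (b * u) := by rw [mul_assoc]
        _ = b * z * (u * b) := by rw [h, ← mul_assoc]
        _ = z * (b * u) * b := by rw [D.z_comm]; simp only [mul_assoc]
        _ = (z * z) * (u * b) * b := by rw [h]; simp only [mul_assoc]
        _ = _ := by rw [D.zz, one_mul, mul_assoc]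
  have hPM : P ≤ M := by
    intro x hx
    obtain ⟨b, hb, rfl⟩ := (hP x).1 hx
    rw [hMm, pow_two]
    exact ⟨mul_mem hb hb, hsq b hb⟩
  constructor
  · intro h
    rcases le_or_eq_of_relIndex_prime D.hl hPM inf_le_left hPi with h1 | h1
    · obtain ⟨b, hb, hba⟩ := (hP a).1 (h1 ((hMm a).2 ⟨ha, h⟩))
      exact ⟨b, hb, by rw [← pow_two]; exact hba⟩
    · exfalso
      obtain ⟨a', ha', hne⟩ := hne
      exact hne ((hMm a').1 (h1 ha')).2
  · rintro ⟨b, hb, rfl⟩
    exact hsq b hb

/-- There is no involution outside `A` centralising an element of order four of `A`. -/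
theorem Core.no_inv (D : Core V 2 R Q A z)
    (hself : ∀ q ∈ Q, (∀ a ∈ A, a * q = q * a) → q ∈ A) {c : H} (hcA : c ∈ A) (hcz : c * c = z)
    {x : H} (hxQ : x ∈ Q) (hxA : x ∉ A) (hx2 : x * x = 1) (hxc : x * c = c * x) : False := by
  have hxinv : x⁻¹ = x := inv_eq_of_mul_eq_one_left hx2
  -- elements of `A` of order dividing four commute with `x`
  have h4 : ∀ s ∈ A, s * s = 1 ∨ s * s = z → s * x = x * s := by
    intro s hs hs2
    rcases hs2 with h | h
    · rcases D.ordA_two hs h with h' | h'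
      · rw [h']; rw [one_mul, mul_one]
      · rw [h']; exact (D.z_comm x).symm
    · have h1 : (s * c⁻¹) * (s * c⁻¹) = 1 := by
        have : Commute s c⁻¹ := (show Commute s c from D.hAc s hs c hcA).inv_right
        calc (s * c⁻¹) * (s * c⁻¹) = (s * s) * (c⁻¹ * c⁻¹) := by
              rw [mul_assoc, ← mul_assoc c⁻¹, ← this.eq]; simp only [mul_assoc]
          _ = z * (c * c)⁻¹ := by rw [h, mul_inv_rev]
          _ = 1 := by rw [hcz, mul_inv_cancel]
      rcases D.ordA_two (mul_mem hs (inv_mem hcA)) h1 with h' | h'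
      · rw [mul_inv_eq_one] at h'
        rw [h', hxc]
      · rw [mul_inv_eq_iff_eq_mul] at h'
        rw [h', mul_assoc, ← hxc, ← mul_assoc, ← D.z_comm x, mul_assoc]
  -- commutators lie in `⟨z⟩`
  obtain ⟨T, hT⟩ := exists_comm_subgroup A A x (by
    intro a ha
    have h1 := mul_mem ha (D.hAn.conj_mem _ (inv_mem ha) x)
    simpa only [mul_assoc] using h1) D.hAc
  have hTA : T ≤ A := by
    intro t ht
    obtain ⟨a, ha, rfl⟩ := (hT t).1 ht
    have h1 := mul_mem ha (D.hAn.conj_mem _ (inv_mem ha) x)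
    simpa only [mul_assoc] using h1
  have hTinv : ∀ t ∈ T, x * t * x⁻¹ = t⁻¹ := by
    intro t ht
    obtain ⟨a, ha, rfl⟩ := (hT t).1 ht
    calc x * (a * x * a⁻¹ * x⁻¹) * x⁻¹ = x * a * x * a⁻¹ * (x * x)⁻¹ := by group
      _ = x * a * x * a⁻¹ := by rw [hx2, inv_one, mul_one]
      _ = x * a * x⁻¹ * a⁻¹ := by rw [hxinv]
      _ = _ := by group
  have hT2 : ∀ t ∈ T, t * t = 1 := by
    intro t ht
    by_contra hne
    have h1 : Subgroup.zpowers (t * t) ≠ ⊥ := by
      rw [Ne, Subgroup.zpowers_eq_bot]; exact hne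
    have h2 : Subgroup.zpowers (t * t) ≤ A := by
      rw [Subgroup.zpowers_le]
      exact mul_mem (hTA ht) (hTA ht)
    obtain ⟨k, hk⟩ := Subgroup.mem_zpowers_iff.1 (D.z_mem h2 h1)
    have hs : t ^ k * t ^ k = z := by rw [← (Commute.refl t).mul_zpow]; exact hk
    have hsT : t ^ k ∈ T := zpow_mem ht k
    have h3 := hTinv _ hsT
    have h5 := h4 _ (hTA hsT) (Or.inr hs)
    rw [← h5, mul_inv_cancel_right] at h3
    apply D.hz1
    rw [← hs]
    nth_rewrite 1 [h3]
    rw [inv_mul_cancel]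
  -- all commutators of elements `x' ∈ Q \ A`, conjugate to `x`
  have hx_or : ∀ a ∈ A, a * x = x * a ∨ a * x = z * (x * a) := by
    intro a ha
    have h1 : a * x * a⁻¹ * x⁻¹ ∈ T := (hT _).2 ⟨a, ha, rfl⟩
    rcases D.ordA_two (hTA h1) (hT2 _ h1) with h2 | h2
    · left
      rw [mul_inv_eq_one, mul_inv_eq_iff_eq_mul] at h2
      exact h2
    · right
      rw [mul_inv_eq_iff_eq_mul, mul_inv_eq_iff_eq_mul, mul_assoc] at h2
      exact h2
  have hx_ne : ∃ a ∈ A, a * x ≠ x * a := by
    by_contra hcon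
    push Not at hcon
    exact hxA (hself x hxQ hcon)
  -- conjugates of `x`
  have hconj : ∀ h : H, h * x * h⁻¹ = x ∨ h * x * h⁻¹ = x * z := by
    intro h
    obtain ⟨y, hy⟩ : ∃ y, y = h * x * h⁻¹ := ⟨_, rfl⟩
    rw [← hy]
    have hyQ : y ∈ Q := hy ▸ D.hQn.conj_mem _ hxQ h
    have hy2 : y * y = 1 := by
      rw [hy]
      calc h * x * h⁻¹ * (h * x * h⁻¹) = h * (x * x) * h⁻¹ := by group
        _ = 1 := by rw [hx2]; group
    have hconjA : ∀ a ∈ A, h⁻¹ * a * h ∈ A := by
      intro a ha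
      have := D.hAn.conj_mem _ ha h⁻¹
      rwa [inv_inv] at this
    have hy_or : ∀ a ∈ A, a * y = y * a ∨ a * y = z * (y * a) := by
      intro a ha
      have e1 : a * y = h * ((h⁻¹ * a * h) * x) * h⁻¹ := by rw [hy]; group
      have e2 : y * a = h * (x * (h⁻¹ * a * h)) * h⁻¹ := by rw [hy]; group
      rcases hx_or _ (hconjA a ha) with h' | h'
      · left; rw [e1, e2, h']
      · right
        rw [e1, e2, h']
        rw [← mul_assoc h z, D.z_comm h]
        simp only [mul_assoc]
    have hy_ne : ∃ a ∈ A, a * y ≠ y * a := by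
      obtain ⟨a, ha, hne⟩ := hx_ne
      refine ⟨h * a * h⁻¹, D.hAn.conj_mem _ ha h, ?_⟩
      intro h'
      apply hne
      have e1 : a * x = h⁻¹ * ((h * a * h⁻¹) * y) * h := by rw [hy]; group
      have e2 : x * a = h⁻¹ * (y * (h * a * h⁻¹)) * h := by rw [hy]; group
      rw [e1, e2, h']
    have hxy : x * y ∈ A := by
      apply hself _ (mul_mem hxQ hyQ)
      intro a ha
      by_cases hc : ∃ b ∈ A, b * b = a
      · have h1 := (D.comm_iff_square hx_or hx_ne ha).2 hc
        have h2 := (D.comm_iff_square hy_or hy_ne ha).2 hc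
        calc a * (x * y) = x * (a * y) := by rw [← mul_assoc, h1, mul_assoc]
          _ = x * y * a := by rw [h2, mul_assoc]
      · have h1 : a * x = z * (x * a) := (hx_or a ha).resolve_left
          (fun h => hc ((D.comm_iff_square hx_or hx_ne ha).1 h))
        have h2 : a * y = z * (y * a) := (hy_or a ha).resolve_left
          (fun h => hc ((D.comm_iff_square hy_or hy_ne ha).1 h))
        calc a * (x * y) = z * x * (a * y) := by rw [← mul_assoc, h1]; simp only [mul_assoc]
          _ = z * (x * z) * (y * a) := by rw [h2]; simp only [mul_assoc]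
          _ = (z * z) * (x * y) * a := by rw [D.z_comm]; simp only [mul_assoc]
          _ = _ := by rw [D.zz, one_mul]
    -- write `y = x a`
    obtain ⟨a, ha⟩ : ∃ a, a = x * y := ⟨_, rfl⟩
    rw [← ha] at hxy
    have hya : y = x * a := by rw [ha, ← mul_assoc, hx2, one_mul]
    have hk : (x * a * x⁻¹) * a = 1 := by
      have h1 := hy2
      rw [hya] at h1
      rw [hxinv]
      simpa only [mul_assoc] using h1
    have ha4 : a * a = 1 ∨ a * a = z := by
      rcases hx_or a hxy with h' | h'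
      · left
        rw [← h', mul_inv_cancel_right] at hk
        exact hk
      · right
        have e1 : x * a = z * (a * x) := by
          rw [h', ← mul_assoc, D.zz, one_mul]
        rw [e1] at hk
        have e2 : z * (a * a) = 1 := by
          rw [← hk]; group
        calc a * a = z * (z * (a * a)) := by rw [← mul_assoc z z, D.zz, one_mul]
          _ = z := by rw [e2, mul_one]
    have hcx := h4 a hxy ha4
    have ha2 : a * a = 1 := by
      rw [← hcx, mul_inv_cancel_right] at hk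
      exact hk
    rcases D.ordA_two hxy ha2 with h' | h'
    · left; rw [hya, h', mul_one]
    · right; rw [hya, h']
  -- the group generated by `x` and `z`
  set E : Subgroup H := Subgroup.closure {x, z} with hE
  have hxE : x ∈ E := Subgroup.subset_closure (by simp)
  have hzE : z ∈ E := Subgroup.subset_closure (by simp)
  have hEn : E.Normal := by
    constructor
    intro n hn g
    rw [hE] at hn
    induction hn using Subgroup.closure_induction with
    | mem y hy =>
      rcases hy with rfl | hy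
      · rcases hconj g with h' | h'
        · rw [h']; exact hxE
        · rw [h']; exact mul_mem hxE hzE
      · rw [Set.mem_singleton_iff] at hy
        rw [hy, D.z_conj]; exact hzE
    | one => rw [mul_one, mul_inv_cancel]; exact one_mem _
    | mul a b _ _ iha ihb =>
      have := mul_mem iha ihb
      have e : g * (a * b) * g⁻¹ = g * a * g⁻¹ * (g * b * g⁻¹) := by group
      rw [e]; exact this
    | inv a _ iha =>
      have e : g * a⁻¹ * g⁻¹ = (g * a * g⁻¹)⁻¹ := by group
      rw [e]; exact inv_mem iha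
  have hEQ : E ≤ Q := by
    rw [hE, Subgroup.closure_le]
    rintro y (rfl | hy)
    · exact hxQ
    · rw [Set.mem_singleton_iff] at hy
      rw [hy]; exact D.hAQ D.hzA
  have hEc : ∀ a ∈ E, ∀ b ∈ E, a * b = b * a := by
    have hxc : ∀ b ∈ E, x * b = b * x := by
      intro b hb
      have : E ≤ Subgroup.centralizer {x} := by
        rw [hE, Subgroup.closure_le]
        rintro y (rfl | hy)
        · rw [SetLike.mem_coe, Subgroup.mem_centralizer_singleton_iff]
        · rw [Set.mem_singleton_iff] at hy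
          rw [hy, SetLike.mem_coe, Subgroup.mem_centralizer_singleton_iff]
          exact (D.z_comm x).symm
      exact (Subgroup.mem_centralizer_singleton_iff.1 (this hb)).symm
    intro a ha b hb
    have : E ≤ Subgroup.centralizer {b} := by
      rw [hE, Subgroup.closure_le]
      rintro y (rfl | hy)
      · rw [SetLike.mem_coe, Subgroup.mem_centralizer_singleton_iff]
        exact hxc b hb
      · rw [Set.mem_singleton_iff] at hy
        rw [hy, SetLike.mem_coe, Subgroup.mem_centralizer_singleton_iff]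
        exact (D.z_comm b).symm
    exact Subgroup.mem_centralizer_singleton_iff.1 (this ha)
  obtain ⟨i, _, v, hv, hxv⟩ := D.lemE hxQ (by rw [pow_two]; exact hx2)
  apply hv
  apply D.hsemi E hEn hEQ hEc _ (mul_mem hxE (pow_mem hzE i)) _ v hxv
  intro h
  apply hxA
  rw [eq_inv_of_mul_eq_one_left h]
  exact inv_mem (pow_mem D.hzA i)

/-- `A` self-centralising, `l = 2`. -/
theorem Core.self_two (D : Core V 2 R Q A z)
    (hself : ∀ q ∈ Q, (∀ a ∈ A, a * q = q * a) → q ∈ A) {r : H} (hr : r ∈ Iset V Q) :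
    (R.index + 1) ^ 2 ≤ Nat.card V := by
  -- an element of order four
  obtain ⟨c, hcA, hcz⟩ : ∃ c ∈ A, c * c = z := by
    obtain ⟨P, hP, hPA, hPi⟩ := D.exists_pow_subgroup
    have hPne : P ≠ ⊥ := by
      intro hbot
      obtain ⟨k, hk, hkl, hkA, _⟩ := D.pow_Iset hr
      apply hkA
      apply hself _ hk.1
      intro a ha
      have h1 : a * a = 1 := by
        have : a ^ 2 ∈ P := (hP _).2 ⟨a, ha, rfl⟩
        rw [hbot, Subgroup.mem_bot, pow_two] at this
        exact this
      rcases D.ordA_two ha h1 with h | h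
      · rw [h, one_mul, mul_one]
      · rw [h]; exact (D.z_comm _).symm
    obtain ⟨c, hc, hcz⟩ := (hP z).1 (D.z_mem hPA hPne)
    exact ⟨c, hc, by rw [← pow_two]; exact hcz⟩
  -- action on `c`
  have hcconj : ∀ h : H, h * c = c * h ∨ h * c = z * (c * h) := by
    intro h
    have h1 : h * c * h⁻¹ * c⁻¹ ∈ A := mul_mem (D.hAn.conj_mem _ hcA h) (inv_mem hcA)
    have h2 : (h * c * h⁻¹ * c⁻¹) * (h * c * h⁻¹ * c⁻¹) = 1 := by
      have e1 : Commute (h * c * h⁻¹) c⁻¹ :=
        D.hAc _ (D.hAn.conj_mem _ hcA h) _ (inv_mem hcA)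
      calc (h * c * h⁻¹ * c⁻¹) * (h * c * h⁻¹ * c⁻¹)
          = (h * c * h⁻¹) * (c⁻¹ * (h * c * h⁻¹)) * c⁻¹ := by simp only [mul_assoc]
        _ = (h * c * h⁻¹) * ((h * c * h⁻¹) * c⁻¹) * c⁻¹ := by rw [e1.eq]
        _ = h * (c * c) * h⁻¹ * (c * c)⁻¹ := by group
        _ = 1 := by rw [hcz, D.z_conj, mul_inv_cancel]
    rcases D.ordA_two h1 h2 with h3 | h3
    · left
      rw [mul_inv_eq_one, mul_inv_eq_iff_eq_mul] at h3
      exact h3
    · right
      rw [mul_inv_eq_iff_eq_mul, mul_inv_eq_iff_eq_mul, mul_assoc] at h3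
      exact h3
  have hprod : ∀ h g : H, h * c ≠ c * h → g * c ≠ c * g → (h * g) * c = c * (h * g) := by
    intro h g hh hg
    have h1 := (hcconj h).resolve_left hh
    have h2 := (hcconj g).resolve_left hg
    calc h * g * c = h * (g * c) := by rw [mul_assoc]
      _ = h * z * (c * g) := by rw [h2, ← mul_assoc]
      _ = z * (h * c) * g := by rw [D.z_comm]; simp only [mul_assoc]
      _ = (z * z) * (c * h) * g := by rw [h1]; simp only [mul_assoc]
      _ = _ := by rw [D.zz, one_mul, mul_assoc]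
  -- the elements of `I`
  have hI : ∀ y ∈ Iset V Q, y ∉ A ∧ y * y = 1 ∧ y * c ≠ c * y := by
    intro y hy
    have hyA : y ∉ A := by
      intro h
      obtain ⟨_, hy1, v, hv, hyv⟩ := hy
      exact hv (D.semiA y h hy1 v hyv)
    obtain ⟨k, hk, hkl, hkA, hkj⟩ := D.pow_Iset hy
    have hy2 : y * y = 1 := by
      by_contra hne
      rw [← pow_two] at hne
      obtain ⟨j, rfl⟩ := hkj hne
      apply D.no_inv hself hcA hcz hk.1 hkA (by rw [← pow_two]; exact hkl)
      have e : y ^ (2 * j) = y ^ j * y ^ j := by rw [two_mul, pow_add]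
      rw [e]
      by_cases hc : y ^ j * c = c * y ^ j
      · rw [mul_assoc, hc, ← mul_assoc, hc, mul_assoc]
      · exact hprod _ _ hc hc
    refine ⟨hyA, hy2, ?_⟩
    intro h
    exact D.no_inv hself hcA hcz hy.1 hyA hy2 h
  obtain ⟨hrQ, hr1, w, hw, hrw⟩ := hr
  have hrI : r ∈ Iset V Q := ⟨hrQ, hr1, w, hw, hrw⟩
  have hr' := hI r hrI
  have hm : 2 ≤ Nat.card (Q ⊓ stabilizer H w : Subgroup H) := by
    have h3 := card_stab_ge (B := Q) hrQ hrw
    have h4 : orderOf r = 2 :=
      orderOf_eq_prime_iff (hp := ⟨D.hl⟩) |>.2 ⟨by rw [pow_two]; exact hr'.2.1, hr1⟩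
    omega
  have hcount : (Iset V Q).ncard * 2 ≤ Nat.card Q := by
    set U : Set H := {q | q ∈ Q ∧ q * c = c * q} with hU
    have h1 : (Iset V Q).ncard ≤ U.ncard := by
      apply Set.ncard_le_ncard_of_injOn (fun y => y * r)
      · intro y hy
        exact ⟨mul_mem hy.1 hrQ, hprod y r (hI y hy).2.2 hr'.2.2⟩
      · intro y _ y' _ h
        exact mul_right_cancel h
    have h2 : Disjoint (Iset V Q) U := by
      rw [Set.disjoint_left]
      intro y hy hyU
      exact (hI y hy).2.2 hyU.2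
    have h3 : (Iset V Q ∪ U).ncard ≤ (Q : Set H).ncard := by
      apply Set.ncard_le_ncard _ (Set.toFinite _)
      rintro y (hy | hy)
      · exact hy.1
      · exact hy.1
    rw [Set.ncard_union_eq h2 (Set.toFinite _) (Set.toFinite _)] at h3
    have h4 : (Q : Set H).ncard = Nat.card Q := (Nat.card_coe_set_eq _).symm
    omega
  refine bound_two R D.hR Q D.hQn D.hQR hw hm ?_ ?_
  · obtain ⟨k, hk⟩ : ∃ k, Nat.card (Q ⊓ stabilizer H w : Subgroup H) = k + 1 :=
      ⟨_, (Nat.succ_pred_eq_of_pos (by omega)).symm⟩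
    rw [hk] at hm ⊢
    rw [Nat.add_sub_cancel]
    nlinarith
  · intro x hx
    have h5 := hI x hx
    exact D.fix_self hself hx.1 h5.1 (by rw [pow_two]; exact h5.2.1)

end

end Cfsg.Agent.H895
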