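import Mathlib
import Cfsg.Agent.H895.AffSelf

/-!
# The case `l = 2`, `|A| = 2`
-/

set_option autoImplicit false

namespace Cfsg.Agent.H895

open MulAction

section

variable {V H : Type*} [CommGroup V] [Group H] [MulDistribMulAction H V]
  {R Q A : Subgroup H} {z : H}

variable [Finite V] [Nontrivial V] [Finite H]

omit [Finite H] in
theorem Core.A_two (D : Core V 2 R Q A z) (hA2 : Nat.card A = 2) {a : H} (ha : a ∈ A) :
    a = 1 ∨ a = z := by
  apply D.ordA_two ha
  have h := pow_card_eq_one' (x := (⟨a, ha⟩ : A))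
  rw [hA2, pow_two] at h
  exact congrArg Subtype.val h

omit [Finite H] in
theorem Core.A_cen (D : Core V 2 R Q A z) (hA2 : Nat.card A = 2) {a : H} (ha : a ∈ A) (h : H) :
    a * h = h * a := by
  rcases D.A_two hA2 ha with h' | h'
  · rw [h', one_mul, mul_one]
  · rw [h', D.z_comm]

omit [Finite H] in
theorem Core.comm_or (D : Core V 2 R Q A z) (hA2 : Nat.card A = 2) {b q : H}
    (h : b * q * b⁻¹ * q⁻¹ ∈ A) : b * q = q * b ∨ b * q = z * (q * b) := by
  rcases D.A_two hA2 h with h' | h'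
  · left
    rw [mul_inv_eq_one, mul_inv_eq_iff_eq_mul] at h'
    exact h'
  · right
    rw [mul_inv_eq_iff_eq_mul, mul_inv_eq_iff_eq_mul, mul_assoc] at h'
    exact h'

omit [Finite H] in
/-- If `b1 b2 = z b2 b1`, any `q` commuting up to `z` with `b1, b2` can be corrected. -/
theorem Core.correct (D : Core V 2 R Q A z) {b1 b2 q : H} (h12 : b1 * b2 = z * (b2 * b1))
    (h1 : b1 * q = q * b1 ∨ b1 * q = z * (q * b1))
    (h2 : b2 * q = q * b2 ∨ b2 * q = z * (q * b2)) :
    ∃ b ∈ Subgroup.closure {b1, b2}, b1 * (q * b) = q * b * b1 ∧ b2 * (q * b) = q * b * b2 := by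
  have hm1 : b1 ∈ Subgroup.closure {b1, b2} := Subgroup.subset_closure (by simp)
  have hm2 : b2 ∈ Subgroup.closure {b1, b2} := Subgroup.subset_closure (by simp)
  have zc := D.z_comm
  have zz := D.zz
  have h21 : b2 * b1 = z * (b1 * b2) := by
    rw [h12, ← mul_assoc, zz, one_mul]
  rcases h1 with h1 | h1 <;> rcases h2 with h2 | h2
  · exact ⟨1, one_mem _, by rw [mul_one]; exact h1, by rw [mul_one]; exact h2⟩
  · -- `b2` anticommutes: correct by `b1`
    refine ⟨b1, hm1, ?_, ?_⟩
    · rw [← mul_assoc, h1]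
    · calc b2 * (q * b1) = (b2 * q) * b1 := by rw [mul_assoc]
        _ = z * q * (b2 * b1) := by rw [h2]; simp only [mul_assoc]
        _ = z * (q * z) * (b1 * b2) := by rw [h21]; simp only [mul_assoc]
        _ = (z * z) * q * (b1 * b2) := by rw [zc]; simp only [mul_assoc]
        _ = _ := by rw [zz, one_mul, mul_assoc]
  · refine ⟨b2, hm2, ?_, ?_⟩
    · calc b1 * (q * b2) = (b1 * q) * b2 := by rw [mul_assoc]
        _ = z * q * (b1 * b2) := by rw [h1]; simp only [mul_assoc]
        _ = z * (q * z) * (b2 * b1) := by rw [h12]; simp only [mul_assoc]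
        _ = (z * z) * q * (b2 * b1) := by rw [zc]; simp only [mul_assoc]
        _ = _ := by rw [zz, one_mul, mul_assoc]
    · rw [← mul_assoc, h2]
  · refine ⟨b1 * b2, mul_mem hm1 hm2, ?_, ?_⟩
    · calc b1 * (q * (b1 * b2)) = (b1 * q) * (b1 * b2) := by simp only [mul_assoc]
        _ = z * q * b1 * (b1 * b2) := by rw [h1]; simp only [mul_assoc]
        _ = z * (q * b1) * z * (b2 * b1) := by rw [h12]; simp only [mul_assoc]
        _ = z * ((q * b1) * z) * (b2 * b1) := by simp only [mul_assoc]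
        _ = (z * z) * (q * b1) * (b2 * b1) := by rw [zc]; simp only [mul_assoc]
        _ = _ := by rw [zz, one_mul]; simp only [mul_assoc]
    · calc b2 * (q * (b1 * b2)) = (b2 * q) * (b1 * b2) := by simp only [mul_assoc]
        _ = z * q * (b2 * b1) * b2 := by rw [h2]; simp only [mul_assoc]
        _ = z * (q * z) * (b1 * b2) * b2 := by rw [h21]; simp only [mul_assoc]
        _ = (z * z) * q * (b1 * b2) * b2 := by rw [zc]; simp only [mul_assoc]
        _ = _ := by rw [zz, one_mul]

theorem Core.exists_P2_small (D : Core V 2 R Q A z) (hA2 : Nat.card A = 2)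
    (hr : ∃ r ∈ Q, r ∉ A ∧ r ^ 2 = 1) :
    ∃ B, P1 2 Q A B ∧ ∃ x ∈ B, x ∉ A ∧ x ^ 2 = 1 := by
  obtain ⟨r, hrQ, hrA, hr2⟩ := hr
  obtain ⟨B, hBn, hAB, hBQ, hBA, hBcomm, hBpow⟩ :=
    exists_omega D.hl A Q D.hAn D.hQn D.hAQ (fun h => hrA (h hrQ)) D.hQp
  have hB : P1 2 Q A B := ⟨hBn, hBQ, hAB, hBA, fun b hb c hc => hBcomm b hb c (hBQ hc),
    fun a ha b _ => D.A_cen hA2 ha b, hBpow⟩
  by_cases hP2 : ∃ x ∈ B, x ∉ A ∧ x ^ 2 = 1
  · exact ⟨B, hB, hP2⟩
  push Not at hP2
  have hBsq : ∀ b ∈ B, b ∉ A → b ^ 2 = z := by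
    intro b hb hbA
    exact (D.A_two hA2 (hBpow b hb)).resolve_left (hP2 b hb hbA)
  obtain ⟨b1, hb1, hb1A⟩ := SetLike.not_le_iff_exists.1 hBA
  obtain ⟨b2, hb2, hb21⟩ := D.exists_noncomm hB hb1 hb1A
  have h12 : b1 * b2 = z * (b2 * b1) :=
    (D.comm_or hA2 (hB.hcomm b1 hb1 b2 hb2)).resolve_left (fun h => hb21 h.symm)
  have hclB : Subgroup.closure {b1, b2} ≤ B := by
    rw [Subgroup.closure_le]
    rintro y (rfl | hy)
    · exact hb1
    · rw [Set.mem_singleton_iff] at hy; rw [hy]; exact hb2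
  -- elements of `B` commuting with `b1, b2` are in `A`
  have hcent : ∀ c ∈ B, b1 * c = c * b1 → b2 * c = c * b2 → c ∈ A := by
    intro c hc h1 h2
    by_contra hcA
    have h3 : (c * b1) ^ 2 = 1 := by
      have : Commute c b1 := h1.symm
      rw [this.mul_pow, hBsq c hc hcA, hBsq b1 hb1 hb1A, D.zz]
    have h4 : c * b1 ∈ A := by
      by_contra h
      exact hP2 _ (mul_mem hc hb1) h h3
    apply hb21
    have h5 := D.A_cen hA2 h4 b2
    -- `c b1 b2 = b2 c b1 = c b2 b1`
    have h6 : c * (b1 * b2) = c * (b2 * b1) := by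
      calc c * (b1 * b2) = (c * b1) * b2 := by rw [mul_assoc]
        _ = (b2 * c) * b1 := by rw [h5, mul_assoc]
        _ = _ := by rw [h2, mul_assoc]
    exact (mul_left_cancel h6).symm
  -- everything commuting with `b1, b2` centralises `B`
  have hcentB : ∀ q : H, b1 * q = q * b1 → b2 * q = q * b2 → ∀ b ∈ B, b * q = q * b := by
    intro q h1 h2 b hb
    obtain ⟨d, hd, hd1, hd2⟩ := D.correct h12 (D.comm_or hA2 (hB.hcomm b1 hb1 b hb))
      (D.comm_or hA2 (hB.hcomm b2 hb2 b hb))
    have h3 : b * d ∈ A := hcent _ (mul_mem hb (hclB hd)) hd1 hd2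
    have h4 : Commute d q := by
      have : Subgroup.closure {b1, b2} ≤ Subgroup.centralizer {q} := by
        rw [Subgroup.closure_le]
        rintro y (rfl | hy)
        · rw [SetLike.mem_coe, Subgroup.mem_centralizer_singleton_iff]; exact h1
        · rw [Set.mem_singleton_iff] at hy
          rw [hy, SetLike.mem_coe, Subgroup.mem_centralizer_singleton_iff]; exact h2
      exact Subgroup.mem_centralizer_singleton_iff.1 (this hd)
    have h5 : Commute (b * d) q := D.A_cen hA2 h3 q
    have h6 := h5.mul_left h4.inv_left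
    rw [mul_inv_cancel_right] at h6
    exact h6
  -- the centraliser of `B` in `Q`
  set C : Subgroup H := Q ⊓ Subgroup.centralizer (B : Set H) with hC
  have hCm : ∀ x, x ∈ C ↔ x ∈ Q ∧ ∀ b ∈ B, b * x = x * b := by
    intro x
    rw [hC, Subgroup.mem_inf, Subgroup.mem_centralizer_iff]
    rfl
  have hCn : C.Normal := by
    have := D.hQn
    infer_instance
  have hAC : A ≤ C := fun a ha => (hCm a).2 ⟨D.hAQ ha, fun b _ => (D.A_cen hA2 ha b).symm⟩
  have hCA : ¬ C ≤ A := by
    obtain ⟨d, hd, hd1, hd2⟩ := D.correct h12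
      (D.comm_or hA2 (hBcomm b1 hb1 r hrQ)) (D.comm_or hA2 (hBcomm b2 hb2 r hrQ))
    intro h
    have h1 : r * d ∈ A := h ((hCm _).2 ⟨mul_mem hrQ (hBQ (hclB hd)), hcentB _ hd1 hd2⟩)
    have h2 : r ∈ B := by
      have := mul_mem (hAB h1) (inv_mem (hclB hd))
      simpa using this
    exact hP2 r h2 hrA hr2
  have hCQ : C ≤ Q := inf_le_left
  have hCp : IsPGroup 2 C := D.hQp.to_le hCQ
  obtain ⟨B', hBn', hAB', hBC', hBA', hBcomm', hBpow'⟩ :=
    exists_omega D.hl A C D.hAn hCn hAC hCA hCp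
  have hB' : P1 2 Q A B' := ⟨hBn', hBC'.trans hCQ, hAB', hBA',
    fun b hb c hc => hBcomm' b hb c (hBC' hc),
    fun a ha b _ => D.A_cen hA2 ha b, hBpow'⟩
  by_cases hP2' : ∃ x ∈ B', x ∉ A ∧ x ^ 2 = 1
  · exact ⟨B', hB', hP2'⟩
  push Not at hP2'
  have hBsq' : ∀ b ∈ B', b ∉ A → b ^ 2 = z := by
    intro b hb hbA
    exact (D.A_two hA2 (hBpow' b hb)).resolve_left (hP2' b hb hbA)
  have hcc : ∀ b ∈ B, ∀ b' ∈ B', Commute b b' := by
    intro b hb b' hb'
    exact ((hCm b').1 (hBC' hb')).2 b hb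
  have hmem : ∀ x, x ∈ B ⊔ B' ↔ ∃ b ∈ B, ∃ b' ∈ B', b * b' = x := by
    intro x
    have := hBn'
    exact Subgroup.mem_sup_of_normal_right
  refine ⟨B ⊔ B', ⟨?_, ?_, ?_, ?_, ?_, ?_, ?_⟩, ?_⟩
  · have := hBn'; exact Subgroup.sup_normal B B'
  · exact sup_le hBQ hB'.hBQ
  · exact hAB.trans le_sup_left
  · intro h; exact hBA (le_sup_left.trans h)
  · intro x hx y hy
    obtain ⟨b, hb, b', hb', rfl⟩ := (hmem x).1 hx
    obtain ⟨c, hc, c', hc', rfl⟩ := (hmem y).1 hy
    have e1 : b * b' * (c * c') = (b * c) * (b' * c') :=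
      Commute.mul_mul_mul_comm (hcc c hc b' hb').symm _ _
    have e2 : c * c' * (b * b') = (c * b) * (c' * b') :=
      Commute.mul_mul_mul_comm (hcc b hb c' hc').symm _ _
    have e3 : b * b' * (c * c') * (b * b')⁻¹ * (c * c')⁻¹ =
        (b * c * b⁻¹ * c⁻¹) * (b' * c' * b'⁻¹ * c'⁻¹) := by
      have e4 : Commute (c * b)⁻¹ (b' * c' * (c' * b')⁻¹) := by
        apply hcc _ (inv_mem (mul_mem hc hb))
        exact mul_mem (mul_mem hb' hc') (inv_mem (mul_mem hc' hb'))
      calc b * b' * (c * c') * (b * b')⁻¹ * (c * c')⁻¹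
          = (b * b' * (c * c')) * (c * c' * (b * b'))⁻¹ := by group
        _ = (b * c) * (b' * c' * (c' * b')⁻¹) * (c * b)⁻¹ := by rw [e1, e2]; group
        _ = (b * c) * ((b' * c' * (c' * b')⁻¹) * (c * b)⁻¹) := by rw [mul_assoc]
        _ = (b * c) * ((c * b)⁻¹ * (b' * c' * (c' * b')⁻¹)) := by rw [e4.eq]
        _ = _ := by group
    rw [e3]
    exact mul_mem (hB.hcomm b hb c hc) (hB'.hcomm b' hb' c' hc')
  · intro a ha b _; exact D.A_cen hA2 ha b
  · intro x hx
    obtain ⟨b, hb, b', hb', rfl⟩ := (hmem x).1 hx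
    rw [(hcc b hb b' hb').mul_pow]
    exact mul_mem (hBpow b hb) (hBpow' b' hb')
  · obtain ⟨b', hb', hb'A⟩ := SetLike.not_le_iff_exists.1 hBA'
    refine ⟨b1 * b', (hmem _).2 ⟨b1, hb1, b', hb', rfl⟩, ?_, ?_⟩
    · intro h
      apply hb21
      have h1 : Commute (b1 * b') b2 := D.A_cen hA2 h b2
      have h2 : Commute b'⁻¹ b2 := (hcc b2 hb2 b' hb').symm.inv_left
      have h3 := h1.mul_left h2
      rw [mul_inv_cancel_right] at h3
      exact h3.symm
    · rw [(hcc b1 hb1 b' hb').mul_pow, hBsq b1 hb1 hb1A, hBsq' b' hb' hb'A, D.zz]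

omit [Nontrivial V] [Finite V] in
theorem eq_of_card_le_two {S : Subgroup H} (hS : Nat.card S ≤ 2) {x y : H} (hx : x ∈ S)
    (hx1 : x ≠ 1) (hy : y ∈ S) (hy1 : y ≠ 1) : x = y := by
  classical
  have := Fintype.ofFinite S
  by_contra hne
  rw [Nat.card_eq_fintype_card] at hS
  have : 2 < Fintype.card S := by
    rw [Fintype.two_lt_card_iff]
    refine ⟨1, ⟨x, hx⟩, ⟨y, hy⟩, ?_, ?_, ?_⟩
    · intro h; exact hx1 (congrArg Subtype.val h).symm
    · intro h; exact hy1 (congrArg Subtype.val h).symm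
    · intro h; exact hne (congrArg Subtype.val h)
  omega

/-- The count for `|A| = 2`. -/
theorem Core.fin_two_small (D : Core V 2 R Q A z) (hA2 : Nat.card A = 2) {B : Subgroup H}
    (hB : P1 2 Q A B) (h2 : ∃ x ∈ B, x ∉ A ∧ x ^ 2 = 1) :
    (R.index + 1) ^ 2 ≤ Nat.card V := by
  -- the number of elements of `I` outside the centraliser of an element `y` of `I`
  have hout : ∀ y ∈ Iset V B, ∃ c : ℕ, c = {x | x ∈ B ∧ x * y = y * x}.ncard ∧
      2 * c ≤ Nat.card B ∧
      2 * (Iset V B).ncard ≤ Nat.card B - c + 2 * (Iset V B ∩ {x | x ∈ B ∧ x * y = y * x}).ncard ∧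
      c ≤ Nat.card B := by
    intro y hy
    have hyp := D.Iset_props hB hy
    have hyy : y * y = 1 := by rw [← pow_two]; exact hyp.1
    set C : Set H := {x | x ∈ B ∧ x * y = y * x} with hC
    set N : Set H := {x | x ∈ B ∧ x * y ≠ y * x} with hN
    have hNanti : ∀ x ∈ N, x * y = z * (y * x) := by
      intro x hx
      exact (D.comm_or hA2 (hB.hcomm x hx.1 y hy.1)).resolve_left hx.2
    have hCN : C.ncard + N.ncard = Nat.card B := by
      have h1 : Disjoint C N := by
        rw [Set.disjoint_left]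
        intro x hx hx'
        exact hx'.2 hx.2
      rw [← Set.ncard_union_eq h1 (Set.toFinite _) (Set.toFinite _)]
      have h2 : C ∪ N = (B : Set H) := by
        ext x
        simp only [hC, hN, Set.mem_union, Set.mem_ofPred_eq, SetLike.mem_coe]
        tauto
      rw [h2]
      exact (Nat.card_coe_set_eq _).symm
    -- a noncommuting element
    obtain ⟨b, hb, hby⟩ := D.exists_noncomm hB hy.1 hyp.2.1
    have hCN2 : C.ncard ≤ N.ncard := by
      apply Set.ncard_le_ncard_of_injOn (fun x => x * b)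
      · intro x hx
        refine ⟨mul_mem hx.1 hb, ?_⟩
        intro h
        apply hby
        have h3 : x * (b * y) = x * (y * b) := by
          rw [← mul_assoc, h, ← mul_assoc, ← mul_assoc, hx.2]
        exact mul_left_cancel h3
      · intro x _ x' _ h
        exact mul_right_cancel h
    -- half of `N`
    have hNI : 2 * (Iset V B ∩ N).ncard ≤ N.ncard := by
      have h1 : (Iset V B ∩ N).ncard ≤ (N \ Iset V B).ncard := by
        apply Set.ncard_le_ncard_of_injOn (fun x => x * y)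
        · rintro x ⟨hxI, hxN⟩
          have hxx : x * x = 1 := by rw [← pow_two]; exact (D.Iset_props hB hxI).1
          refine ⟨⟨mul_mem hxN.1 hy.1, ?_⟩, ?_⟩
          · intro h
            apply hxN.2
            rw [mul_assoc, hyy, mul_one] at h
            calc x * y = y * (x * y) * y := by rw [← h]
              _ = y * x * (y * y) := by simp only [mul_assoc]
              _ = y * x := by rw [hyy, mul_one]
          · intro h
            have h3 := (D.Iset_props hB h).1
            apply D.hz1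
            rw [← h3, pow_two]
            calc z = z * (y * (x * x) * y) := by rw [hxx, mul_one, hyy, mul_one]
              _ = (z * (y * x)) * (x * y) := by simp only [mul_assoc]
              _ = (x * y) * (x * y) := by rw [← hNanti x hxN]
        · intro x _ x' _ h
          exact mul_right_cancel h
      have h2 : (Iset V B ∩ N).ncard + (N \ Iset V B).ncard = N.ncard := by
        rw [Set.inter_comm]
        exact Set.ncard_inter_add_ncard_sdiff_eq_ncard N (Iset V B)
      omega
    have hIsum : (Iset V B).ncard ≤ (Iset V B ∩ N).ncard + (Iset V B ∩ C).ncard := by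
      refine le_trans ?_ (Set.ncard_union_le _ _)
      apply Set.ncard_le_ncard _ (Set.toFinite _)
      intro x hx
      by_cases h : x * y = y * x
      · exact Or.inr ⟨hx, hx.1, h⟩
      · exact Or.inl ⟨hx, hx.1, h⟩
    exact ⟨C.ncard, rfl, by omega, by omega, by omega⟩
  by_cases hbig : ∃ w : V, w ≠ 1 ∧ 2 < Nat.card (B ⊓ stabilizer H w : Subgroup H)
  · obtain ⟨w, hw, hbw⟩ := hbig
    have hBp : IsPGroup 2 (B ⊓ stabilizer H w : Subgroup H) :=
      D.hQp.to_le (inf_le_left.trans hB.hBQ)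
    have h4 : 4 ≤ Nat.card (B ⊓ stabilizer H w : Subgroup H) := by
      have := Fact.mk D.hl
      obtain ⟨k, hk⟩ := IsPGroup.iff_card.1 hBp
      rw [hk] at hbw ⊢
      have hk2 : 2 ≤ k := by
        by_contra h
        have : k ≤ 1 := by omega
        interval_cases k <;> omega
      calc 4 = 2 ^ 2 := by norm_num
        _ ≤ 2 ^ k := Nat.pow_le_pow_right (by norm_num) hk2
    obtain ⟨y, hy⟩ : ∃ y : (B ⊓ stabilizer H w : Subgroup H), y ≠ 1 := by
      have : (B ⊓ stabilizer H w : Subgroup H) ≠ ⊥ := by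
        intro h; rw [h, Subgroup.card_bot] at hbw; omega
      exact Subgroup.ne_bot_iff_exists_ne_one.1 this
    have hyI : (y : H) ∈ Iset V B :=
      ⟨(Subgroup.mem_inf.1 y.2).1, fun h => hy (Subtype.ext h), w, hw, (Subgroup.mem_inf.1 y.2).2⟩
    obtain ⟨c, hc, hc1, hc2, hc3⟩ := hout _ hyI
    have hIC : (Iset V B ∩ {x | x ∈ B ∧ x * y = y * x}).ncard ≤ c := by
      rw [hc]
      exact Set.ncard_le_ncard Set.inter_subset_right (Set.toFinite _)
    have h34 : 4 * (Iset V B).ncard ≤ 3 * Nat.card B := by omega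
    refine bound_two R D.hR B hB.hBn (hB.hBQ.trans D.hQR) hw (by omega) ?_ ?_
    · obtain ⟨k, hk⟩ : ∃ k, Nat.card (B ⊓ stabilizer H w : Subgroup H) = k + 1 :=
        ⟨_, (Nat.succ_pred_eq_of_pos (by omega)).symm⟩
      rw [hk] at h4 ⊢
      rw [Nat.add_sub_cancel]
      nlinarith
    · intro x hx
      exact (D.Iset_props hB hx).2.2
  · push Not at hbig
    apply D.fin_two hB h2
    obtain ⟨y, hy, w, hw, hyw⟩ := D.exists_Iset hB h2
    have hyp := D.Iset_props hB hy
    obtain ⟨c, hc, hc1, hc2, hc3⟩ := hout _ hy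
    -- the centraliser has at least four elements
    have hc4 : 4 ≤ c := by
      rw [hc]
      have h5 : (({1, z, y, y * z} : Set H)).ncard = 4 := by
        have hz1 := D.hz1
        have hy1 := hy.2.1
        have hyz : y ≠ z := fun h => hyp.2.1 (h ▸ D.hzA)
        have hyz1 : y * z ≠ 1 := by
          intro h
          apply hyp.2.1
          rw [eq_inv_of_mul_eq_one_left h]
          exact inv_mem D.hzA
        have hyyz : y ≠ y * z := fun h => hz1 (left_eq_mul.1 h)
        have hzyz : z ≠ y * z := fun h => hy1 (right_eq_mul.1 h)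
        rw [Set.ncard_insert_of_notMem, Set.ncard_insert_of_notMem, Set.ncard_pair hyyz]
        · simp only [Set.mem_insert_iff, Set.mem_singleton_iff, not_or]
          exact ⟨hyz.symm, hzyz⟩
        · simp only [Set.mem_insert_iff, Set.mem_singleton_iff, not_or]
          exact ⟨hz1.symm, hy1.symm, hyz1.symm⟩
      rw [← h5]
      apply Set.ncard_le_ncard _ (Set.toFinite _)
      rintro x (rfl | rfl | rfl | hx)
      · exact ⟨one_mem _, by rw [one_mul, mul_one]⟩
      · exact ⟨hB.hAB D.hzA, (D.z_comm y).symm⟩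
      · exact ⟨hy.1, rfl⟩
      · rw [Set.mem_singleton_iff] at hx
        rw [hx]
        exact ⟨mul_mem hy.1 (hB.hAB D.hzA), by rw [mul_assoc, ← D.z_comm y, ← mul_assoc]⟩
    -- `I ∩ C ⊆ {y, y z}`
    have hIC : (Iset V B ∩ {x | x ∈ B ∧ x * y = y * x}).ncard ≤ 2 := by
      have h5 : Iset V B ∩ {x | x ∈ B ∧ x * y = y * x} ⊆ {y, y * z} := by
        rintro x ⟨hxI, hxB, hxy⟩
        have hxx : x * x = 1 := by rw [← pow_two]; exact (D.Iset_props hB hxI).1
        by_contra hcon
        simp only [Set.mem_insert_iff, Set.mem_singleton_iff, not_or] at hcon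
        have hyS : y ∈ (B ⊓ stabilizer H w : Subgroup H) := ⟨hy.1, hyw⟩
        -- `u = w (x w)` is fixed by `x` and `y`
        have hxu : x • (w * x • w) = w * x • w := by
          rw [smul_mul', smul_smul, hxx, one_smul, mul_comm]
        have hyu : y • (w * x • w) = w * x • w := by
          rw [smul_mul', hyw, smul_smul, ← hxy, mul_smul, hyw]
        have hu1 : w * x • w = 1 := by
          by_contra hu
          have h6 := hbig _ hu
          exact hcon.1 (eq_of_card_le_two h6 ⟨hxB, hxu⟩ hxI.2.1 ⟨hy.1, hyu⟩ hy.2.1)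
        have hxw : x • w = w⁻¹ := eq_inv_of_mul_eq_one_right hu1
        have hzw : z • w = w⁻¹ := by
          apply eq_inv_of_mul_eq_one_right
          apply D.zfix
          rw [smul_mul', smul_smul, D.zz, one_smul, mul_comm]
        have hxzw : (x * z) • w = w := by
          rw [mul_smul, hzw, smul_inv', hxw, inv_inv]
        have hxz1 : x * z ≠ 1 := by
          intro h
          apply (D.Iset_props hB hxI).2.1
          rw [eq_inv_of_mul_eq_one_left h]
          exact inv_mem D.hzA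
        have h6 := eq_of_card_le_two (hbig w hw) ⟨mul_mem hxB (hB.hAB D.hzA), hxzw⟩ hxz1 hyS
          hy.2.1
        apply hcon.2
        rw [← h6, mul_assoc, D.zz, mul_one]
      refine (Set.ncard_le_ncard h5 (Set.toFinite _)).trans ?_
      refine (Set.ncard_insert_le _ _).trans ?_
      rw [Set.ncard_singleton]
    omega

end

end Cfsg.Agent.H895
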