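import Mathlib
import Cfsg.Agent.H394.AffAb
import Cfsg.Agent.H895.AffSmall

/-!
# The affine theorem

If `H` acts faithfully on a finite abelian `p`-group `V`, `R` is a normal subgroup of `H` containing
all elements with nontrivial fixed points, and there is a nonidentity one, then
`|H : R| ≤ √|V| - 1`.
-/

set_option autoImplicit false

namespace Cfsg.Agent.H895

open MulAction

/-- The core: a normal `l`-subgroup with an element with nontrivial fixed points. -/
theorem affine_core {V H : Type*} [CommGroup V] [Finite V] [Group H] [Finite H]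
    [MulDistribMulAction H V] [FaithfulSMul H V] (R : Subgroup H) (hRn : R.Normal)
    (hR : ∀ h : H, h ∉ R → ∀ v : V, h • v = v → v = 1) (Q : Subgroup H) (hQn : Q.Normal)
    (hQR : Q ≤ R) {l : ℕ} (hl : l.Prime) (hQp : IsPGroup l Q)
    (hcop : Nat.Coprime l (Nat.card V))
    (hne : ∃ r ∈ Q, r ≠ 1 ∧ ∃ v : V, v ≠ 1 ∧ r • v = v) :
    (R.index + 1) ^ 2 ≤ Nat.card V := by
  classical
  have hfl := Fact.mk hl
  by_cases hsemi : ∀ E : Subgroup H, E.Normal → E ≤ Q → (∀ x ∈ E, ∀ y ∈ E, x * y = y * x) →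
    ∀ a ∈ E, a ≠ 1 → ∀ v : V, a • v = v → v = 1
  swap
  · push Not at hsemi
    obtain ⟨E, hEn, hEQ, hEc, a, ha, ha1, v, hav, hv⟩ := hsemi
    refine Cfsg.Agent.H394.AffAb.ab_bound R hRn hR E hEn (hEQ.trans hQR) hEc ?_
      ⟨a, ha, ha1, v, hv, hav⟩
    obtain ⟨k, hk⟩ := IsPGroup.iff_card.1 (hQp.to_le hEQ)
    rw [hk]
    exact Nat.Coprime.pow_left k hcop
  obtain ⟨r, hrQ, hr1, v0, hv0, hrv0⟩ := hne
  have hrI : r ∈ Iset V Q := ⟨hrQ, hr1, v0, hv0, hrv0⟩
  have hVn : Nontrivial V := ⟨⟨v0, 1, hv0⟩⟩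
  -- a maximal abelian normal subgroup
  obtain ⟨A, ⟨hAn, hAQ, hAc⟩, hAmax⟩ := Set.exists_max_image
    {E : Subgroup H | E.Normal ∧ E ≤ Q ∧ ∀ x ∈ E, ∀ y ∈ E, x * y = y * x}
    (fun E => Nat.card E) (Set.toFinite _)
    ⟨⊥, inferInstance, bot_le, by
      intro x hx y hy
      rw [Subgroup.mem_bot] at hx hy
      rw [hx, hy]⟩
  have hAmax' : ∀ E : Subgroup H, E.Normal → E ≤ Q → (∀ x ∈ E, ∀ y ∈ E, x * y = y * x) →
      A ≤ E → E ≤ A := by
    intro E h1 h2 h3 h4
    have h5 := hAmax E ⟨h1, h2, h3⟩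
    exact (Subgroup.eq_of_le_of_card_ge h4 h5).ge
  -- a central element of order `l`
  have hQb : Q ≠ ⊥ := by
    intro h
    rw [h, Subgroup.mem_bot] at hrQ
    exact hr1 hrQ
  obtain ⟨z, hz⟩ := Subgroup.ne_bot_iff_exists_ne_one.1 (omC_ne_bot hl hQp hQb)
  have hz1 : (z : H) ≠ 1 := fun h => hz (Subtype.ext h)
  have hzm := mem_omC.1 z.2
  have hzA : (z : H) ∈ A := by
    have hOn := omC_normal hQn l
    have hle : A ⊔ omC Q l ≤ A := by
      apply hAmax' _ (Subgroup.sup_normal A (omC Q l))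
      · exact sup_le hAQ (fun x hx => (mem_omC.1 hx).1)
      · intro x hx y hy
        obtain ⟨a, ha, b, hb, rfl⟩ := Subgroup.mem_sup_of_normal_right.1 hx
        obtain ⟨c, hc, d, hd, rfl⟩ := Subgroup.mem_sup_of_normal_right.1 hy
        have e1 : Commute a (c * d) := by
          have h1 : Commute a c := hAc a ha c hc
          have h2 : Commute a d := ((mem_omC.1 hd).2.1 a (hAQ ha)).symm
          exact h1.mul_right h2
        have e2 : Commute b (c * d) :=
          (mem_omC.1 hb).2.1 _ (mul_mem (hAQ hc) (mem_omC.1 hd).1)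
        exact e1.mul_left e2
      · exact le_sup_left
    exact hle (Subgroup.mem_sup_right z.2)
  have D : Core V l R Q A (z : H) := ⟨hl, hcop, hR, hQn, hQR, hQp, hsemi, hAn, hAQ, hAc, hAmax',
    hzA, hzm.2.1, hzm.2.2, hz1⟩
  have hl23 : l = 2 ∨ 3 ≤ l := by
    have := hl.two_le
    omega
  by_cases hself : ∀ q ∈ Q, (∀ a ∈ A, a * q = q * a) → q ∈ A
  · rcases hl23 with rfl | hl3
    · exact D.self_two hself hrI
    · exact D.self_odd hl3 hself hrI
  push Not at hself
  obtain ⟨q, hqQ, hqc, hqA⟩ := hself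
  set C : Subgroup H := Q ⊓ Subgroup.centralizer (A : Set H) with hC
  have hCm : ∀ x, x ∈ C ↔ x ∈ Q ∧ ∀ b ∈ A, b * x = x * b := by
    intro x
    rw [hC, Subgroup.mem_inf, Subgroup.mem_centralizer_iff]
    rfl
  have hCn : C.Normal := by infer_instance
  obtain ⟨B, hBn, hAB, hBC, hBA, hBcomm, hBpow⟩ := exists_omega hl A C hAn hCn
    (fun a ha => (hCm a).2 ⟨hAQ ha, fun b hb => hAc b hb a ha⟩)
    (fun h => hqA (h ((hCm q).2 ⟨hqQ, hqc⟩))) (hQp.to_le inf_le_left)
  have hB : P1 l Q A B := ⟨hBn, hBC.trans inf_le_left, hAB, hBA,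
    fun b hb c hc => hBcomm b hb c (hBC hc),
    fun a ha b hb => ((hCm b).1 (hBC hb)).2 a ha, hBpow⟩
  rcases hl23 with rfl | hl3
  · by_cases hA4 : 4 ≤ Nat.card A
    · exact D.fin_two_big hA4 hB (D.exists_P2 (fun _ => hA4) hB)
    · have hA2 : Nat.card A = 2 := by
        obtain ⟨k, hk⟩ := IsPGroup.iff_card.1 (hQp.to_le hAQ)
        have h2 : 1 < Nat.card A := by
          have : Nontrivial A := ⟨⟨⟨z, hzA⟩, 1, fun h => hz1 (congrArg Subtype.val h)⟩⟩
          exact Finite.one_lt_card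
        rw [hk] at hA4 h2 ⊢
        have hk2 : k < 2 := by
          by_contra h
          apply hA4
          calc 4 = 2 ^ 2 := by norm_num
            _ ≤ 2 ^ k := Nat.pow_le_pow_right (by norm_num) (by omega)
        interval_cases k <;> omega
      obtain ⟨k, hk, hkl, hkA, _⟩ := D.pow_Iset hrI
      obtain ⟨B', hB', hP2⟩ := D.exists_P2_small hA2 ⟨r ^ k, hk.1, hkA, hkl⟩
      exact D.fin_two_small hA2 hB' hP2
  · exact D.fin_odd hl3 hB (D.exists_P2 (fun h => by omega) hB)

/-- A nontrivial normal `p`-subgroup of `H` acting on a `p`-group. -/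
theorem affine_pcase {V H : Type*} [CommGroup V] [Finite V] [Group H] [Finite H]
    [MulDistribMulAction H V] [FaithfulSMul H V] (R : Subgroup H) (hRn : R.Normal)
    (hR : ∀ h : H, h ∉ R → ∀ v : V, h • v = v → v = 1) (Q : Subgroup H) (hQn : Q.Normal)
    {p : ℕ} (hp : p.Prime) (hQp : IsPGroup p Q) (hV : p ∣ Nat.card V)
    (hQb : Q ≠ ⊥) : (R.index + 1) ^ 2 ≤ Nat.card V := by
  have := Fact.mk hp
  refine Cfsg.Agent.H394.AffAb.inv_bound R hRn hR (fixS V Q) ?_ ?_ ?_
  · intro h w hw x hx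
    have h1 := hQn.conj_mem x hx h⁻¹
    rw [inv_inv] at h1
    have h2 := hw _ h1
    rw [mul_smul, mul_smul] at h2
    rw [inv_smul_eq_iff] at h2
    exact h2
  · intro h
    have h1 := hQp.card_modEq_card_fixedPoints V
    have h2 : Nat.card (fixedPoints Q V) = 1 := by
      rw [Nat.card_eq_one_iff_unique]
      refine ⟨⟨?_⟩, ⟨⟨1, fun q => smul_one q⟩⟩⟩
      rintro ⟨a, ha⟩ ⟨b, hb⟩
      have key : ∀ a : V, a ∈ fixedPoints Q V → a = 1 := by
        intro a ha
        have : a ∈ fixS V Q := by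
          intro x hx
          exact ha ⟨x, hx⟩
        rw [h, Subgroup.mem_bot] at this
        exact this
      apply Subtype.ext
      change a = b
      rw [key a ha, key b hb]
    rw [h2] at h1
    have h3 := (Nat.modEq_zero_iff_dvd.2 hV).symm.trans h1
    have h4 := Nat.modEq_zero_iff_dvd.1 h3.symm
    exact hp.one_lt.ne' (Nat.dvd_one.1 h4)
  · intro h
    apply hQb
    rw [Subgroup.eq_bot_iff_forall]
    intro x hx
    apply FaithfulSMul.eq_of_smul_eq_smul (α := V)
    intro v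
    have hv : v ∈ fixS V Q := by rw [h]; exact Subgroup.mem_top v
    rw [hv x hx, one_smul]

theorem affine_bound_aux (n : ℕ) : ∀ {V : Type*} {H : Type*} [CommGroup V] [Finite V] [Group H]
    [Finite H] [MulDistribMulAction H V] [FaithfulSMul H V] {p : ℕ} (_ : p.Prime)
    (_ : ∃ k, Nat.card V = p ^ k) (R : Subgroup H) (_ : R.Normal)
    (_ : ∀ h : H, h ∉ R → ∀ v : V, h • v = v → v = 1)
    (_ : ∃ r : H, r ≠ 1 ∧ ∃ v : V, v ≠ 1 ∧ r • v = v) (_ : Nat.card H = n),
    (R.index + 1) ^ 2 ≤ Nat.card V := by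
  induction n using Nat.strong_induction_on with
  | _ n ih =>
  intro V H _ _ _ _ _ _ p hp hV R hRn hR hne hn
  classical
  obtain ⟨r, hr1, v, hv, hrv⟩ := hne
  have hVn : Nontrivial V := ⟨⟨v, 1, hv⟩⟩
  -- make the order of `r` prime
  obtain ⟨l, hl, hlr⟩ : ∃ l : ℕ, l.Prime ∧ l ∣ orderOf r := by
    apply Nat.exists_prime_and_dvd
    rw [Ne, orderOf_eq_one_iff]
    exact hr1
  have hfl := Fact.mk hl
  obtain ⟨m, hm⟩ := hlr
  have hspow : orderOf (r ^ m) = l := by
    have h0 : 0 < orderOf r := orderOf_pos r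
    have hm0 : m ≠ 0 := by rintro rfl; omega
    rw [orderOf_pow_of_dvd hm0 ⟨l, by rw [hm, mul_comm]⟩, hm, Nat.mul_div_cancel _ (by omega)]
  set s := r ^ m with hs
  have hs1 : s ≠ 1 := by
    intro h
    rw [h, orderOf_one] at hspow
    exact hl.one_lt.ne hspow
  have hsv : s • v = v := by
    have : r ^ m ∈ stabilizer H v := pow_mem (show r ∈ stabilizer H v from hrv) m
    exact this
  have hsR : s ∈ R := by
    by_contra h
    exact hv (hR s h v hsv)
  -- a Sylow subgroup of `R` containing `s`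
  have hzp : IsPGroup l (Subgroup.zpowers (⟨s, hsR⟩ : R)) := by
    rw [IsPGroup.iff_card]
    refine ⟨1, ?_⟩
    rw [Nat.card_zpowers, pow_one, Subgroup.orderOf_mk, hspow]
  obtain ⟨P, hP⟩ := hzp.exists_le_sylow
  set Q : Subgroup H := (P : Subgroup R).map R.subtype with hQ
  have hsQ : s ∈ Q := ⟨⟨s, hsR⟩, hP (Subgroup.mem_zpowers _), rfl⟩
  have hQR : Q ≤ R := by
    rintro x ⟨y, _, rfl⟩
    exact y.2
  have hQp : IsPGroup l Q := P.isPGroup'.map R.subtype
  have hfr : Subgroup.normalizer (Q : Set H) ⊔ R = ⊤ := Sylow.normalizer_sup_eq_top P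
  set M : Subgroup H := Subgroup.normalizer (Q : Set H) with hM
  by_cases hMtop : M = ⊤
  · have hQn : Q.Normal := Subgroup.normalizer_eq_top_iff.1 hMtop
    by_cases hlp : l = p
    · subst hlp
      refine affine_pcase R hRn hR Q hQn hl hQp ?_ ?_
      · obtain ⟨k, hk⟩ := hV
        have h1 : 1 < Nat.card V := Finite.one_lt_card
        rw [hk] at h1 ⊢
        rcases Nat.eq_zero_or_pos k with rfl | hk0
        · simp at h1
        · exact dvd_pow_self l (by omega)
      · intro h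
        rw [h, Subgroup.mem_bot] at hsQ
        exact hs1 hsQ
    · refine affine_core R hRn hR Q hQn hQR hl hQp ?_ ⟨s, hsQ, hs1, v, hv, hsv⟩
      obtain ⟨k, hk⟩ := hV
      rw [hk]
      exact Nat.Coprime.pow_right k ((Nat.coprime_primes hl hp).2 hlp)
  · have hlt : Nat.card M < n := by
      rw [← hn]
      rcases (Subgroup.card_le_card_group M).lt_or_eq with h | h
      · exact h
      · exact absurd (Subgroup.eq_top_of_card_eq M h) hMtop
    have hsM : s ∈ M := Subgroup.le_normalizer hsQ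
    have key := ih _ hlt (V := V) (H := M) hp hV (R.subgroupOf M) inferInstance ?_
      ⟨⟨s, hsM⟩, fun h => hs1 (congrArg Subtype.val h), v, hv, hsv⟩ rfl
    · have h1 : (R.subgroupOf M).index = R.index := by
        change R.relIndex M = R.index
        rw [← Subgroup.relIndex_sup_right, hfr, Subgroup.relIndex_top_right]
      rw [h1] at key
      exact key
    · intro h hh w hw
      exact hR h (fun h' => hh (Subgroup.mem_subgroupOf.2 h')) w hw

/-- **The affine theorem.** -/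
theorem affine_bound {V H : Type*} [CommGroup V] [Finite V] [Group H] [Finite H]
    [MulDistribMulAction H V] [FaithfulSMul H V] {p : ℕ} (hp : p.Prime)
    (hV : ∃ k, Nat.card V = p ^ k) (R : Subgroup H) (hRn : R.Normal)
    (hR : ∀ h : H, h ∉ R → ∀ v : V, h • v = v → v = 1)
    (hne : ∃ r : H, r ≠ 1 ∧ ∃ v : V, v ≠ 1 ∧ r • v = v) :
    (R.index + 1) ^ 2 ≤ Nat.card V :=
  affine_bound_aux (Nat.card H) hp hV R hRn hR hne rfl

end Cfsg.Agent.H895
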